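import Groth.Agent.Div38.Algebra
import Groth.Agent.DivCodimTwo.StalkIdeal
import Groth.Agent.IdealComap.Basic
import Groth.Prelude.Def_BlowUp2

/-!
# Gluing an effective Cartier ideal from stalkwise generators
-/

set_option linter.style.haveILetI false
set_option maxHeartbeats 800000

universe u

open CategoryTheory AlgebraicGeometry TopologicalSpace Opposite

namespace Groth.Agent.Div38

open DivCodimTwo

variable {X Y : Scheme.{u}}

lemma eqAt_germ_iff (V : X.affineOpens) {x : X} (hx : x ∈ V.1) (c d : Γ(X, V.1)) :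
    EqAt (V.2.primeIdealOf ⟨x, hx⟩).asIdeal c d ↔
      Ideal.span {X.presheaf.germ V.1 x hx c} = Ideal.span {X.presheaf.germ V.1 x hx d} := by
  letI := TopCat.Presheaf.algebra_section_stalk X.presheaf (⟨x, hx⟩ : V.1)
  haveI := V.2.isLocalization_stalk ⟨x, hx⟩
  exact eqAt_iff (V.2.primeIdealOf ⟨x, hx⟩).asIdeal (L := X.presheaf.stalk x)

/-- A section whose germs lie in a principal ideal lies in that ideal. -/
lemma mem_span_of_germ (V : X.affineOpens) {b c : Γ(X, V.1)}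
    (h : ∀ x (hx : x ∈ V.1), X.presheaf.germ V.1 x hx b ∈ Ideal.span {X.presheaf.germ V.1 x hx c}) :
    b ∈ Ideal.span {c} := by
  let L : Ideal Γ(X, V.1) := Submodule.comap (LinearMap.toSpanSingleton Γ(X, V.1) Γ(X, V.1) b) (Ideal.span {c})
  by_contra hb
  have hL : L ≠ ⊤ := fun hL => hb (by
    have : (1 : Γ(X, V.1)) * b ∈ Ideal.span {c} := (Ideal.eq_top_iff_one L).mp hL
    rwa [one_mul] at this)
  obtain ⟨m, hm, hLm⟩ := L.exists_le_maximal hL
  let q : PrimeSpectrum Γ(X, V.1) := ⟨m, hm.isPrime⟩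
  have hx := InvExtend.pt_mem V.2 q
  letI := TopCat.Presheaf.algebra_section_stalk X.presheaf (⟨_, hx⟩ : V.1)
  haveI := V.2.isLocalization_stalk ⟨_, hx⟩
  obtain ⟨u, hu, hub⟩ := (mem_span_img_iff (V.2.primeIdealOf ⟨_, hx⟩).asIdeal
    (L := X.presheaf.stalk (InvExtend.pt V.2 q))).mp (h _ hx)
  exact hu ((congrArg PrimeSpectrum.asIdeal (InvExtend.primeIdealOf_pt V.2 q)).ge (hLm hub))

lemma mem_nonZeroDivisors_of_germ (V : X.affineOpens) {c : Γ(X, V.1)}
    (h : ∀ x (hx : x ∈ V.1), X.presheaf.germ V.1 x hx c ∈ nonZeroDivisors (X.presheaf.stalk x)) :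
    c ∈ nonZeroDivisors Γ(X, V.1) := by
  rw [mem_nonZeroDivisors_iff_right]
  intro a ha
  refine TopCat.Presheaf.section_ext X.sheaf V.1 a 0 fun x hx => ?_
  rw [map_zero]
  refine (mem_nonZeroDivisors_iff_right.mp (h x hx)) _ ?_
  show X.presheaf.germ V.1 x hx a * X.presheaf.germ V.1 x hx c = 0
  rw [← map_mul, ha, map_zero]

lemma germ_appLE {f : X ⟶ Y} {V : X.Opens} {W : Y.Opens} (e : V ≤ f ⁻¹ᵁ W) {x : X} (hx : x ∈ V) (a : Γ(Y, W)) :
    X.presheaf.germ V x hx (f.appLE W V e a) = f.stalkMap x (Y.presheaf.germ W (f x) (e hx) a) := by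
  rw [Scheme.Hom.germ_stalkMap_apply, Scheme.Hom.appLE, CommRingCat.comp_apply,
    TopCat.Presheaf.germ_res_apply]

lemma gI_comap (I : Y.IdealSheafData) (f : X ⟶ Y) (x : X) :
    gI (I.comap f) x = (gI I (f x)).map (f.stalkMap x).hom := by
  obtain ⟨W, hW, hxW, -⟩ := exists_isAffineOpen_mem_and_subset (U := (⊤ : Y.Opens)) (x := f x) trivial
  obtain ⟨V, hV, hxV, hVW⟩ := exists_isAffineOpen_mem_and_subset (show x ∈ f ⁻¹ᵁ W from hxW)
  rw [gI_eq _ ⟨V, hV⟩ hxV, gI_eq I ⟨W, hW⟩ hxW, IdealComap.ideal_comap I f ⟨V, hV⟩ ⟨W, hW⟩ hVW,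
    Ideal.map_map, Ideal.map_map]
  congr 1
  exact RingHom.ext fun a => germ_appLE hVW hxV a

lemma span_stalkMap_germ {f : X ⟶ Y} {W : Y.Opens} {x : X} (hx : f x ∈ W) (a : Γ(Y, W)) :
    (Ideal.span {Y.presheaf.germ W (f x) hx a}).map (f.stalkMap x).hom =
      Ideal.span {X.presheaf.germ (f ⁻¹ᵁ W) x hx (f.app W a)} := by
  rw [Ideal.map_span, Set.image_singleton]
  exact congrArg (fun z => Ideal.span {z}) (Scheme.Hom.germ_stalkMap_apply f W x hx a)

section Glue

variable (C : ∀ y : Y, Ideal (Y.presheaf.stalk y))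

/-- Sections with germs in prescribed stalk ideals. -/
noncomputable def secIdeal (U : Y.Opens) : Ideal Γ(Y, U) :=
  ⨅ y : U, (C y.1).comap (Y.presheaf.germ U y.1 y.2).hom

lemma mem_secIdeal {U : Y.Opens} {a : Γ(Y, U)} :
    a ∈ secIdeal C U ↔ ∀ y (hy : y ∈ U), Y.presheaf.germ U y hy a ∈ C y := by
  simp [secIdeal, Submodule.mem_iInf, Subtype.forall]

variable (hC : ∀ y : Y, ∃ (D : Y.affineOpens) (c : Γ(Y, D.1)), y ∈ D.1 ∧
  ∀ z (hz : z ∈ D.1), C z = Ideal.span {Y.presheaf.germ D.1 z hz c} ∧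
    Y.presheaf.germ D.1 z hz c ∈ nonZeroDivisors (Y.presheaf.stalk z))
include hC

lemma map_secIdeal (U : Y.affineOpens) (g : Γ(Y, U.1)) :
    (secIdeal C U.1).map (Y.presheaf.map (homOfLE (Y.basicOpen_le g)).op).hom = secIdeal C (Y.basicOpen g) := by
  classical
  refine le_antisymm (Ideal.map_le_iff_le_comap.mpr fun a ha => ?_) fun a ha => ?_
  · refine (mem_secIdeal C).mpr fun y hy => ?_
    rw [TopCat.Presheaf.germ_res_apply]
    exact (mem_secIdeal C).mp ha y _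
  letI := (Y.presheaf.map (homOfLE (Y.basicOpen_le g)).op).hom.toAlgebra
  haveI := U.2.isLocalization_basicOpen g
  obtain ⟨⟨b, ⟨_, k, rfl⟩⟩, hb⟩ := IsLocalization.surj (Submonoid.powers g) a
  have hgu : IsUnit (algebraMap Γ(Y, U.1) Γ(Y, Y.basicOpen g) (g ^ k)) :=
    IsLocalization.map_units _ (⟨g ^ k, k, rfl⟩ : Submonoid.powers g)
  have hbmem : ∀ y (hy : y ∈ Y.basicOpen g), Y.presheaf.germ U.1 y (Y.basicOpen_le g hy) b ∈ C y := by
    intro y hy
    have h1 : algebraMap Γ(Y, U.1) Γ(Y, Y.basicOpen g) b =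
        algebraMap Γ(Y, U.1) Γ(Y, Y.basicOpen g) (g ^ k) * a := by
      rw [mul_comm]; exact hb.symm
    have h2 := congrArg (Y.presheaf.germ (Y.basicOpen g) y hy) h1
    rw [map_mul, RingHom.algebraMap_toAlgebra, TopCat.Presheaf.germ_res_apply] at h2
    rw [h2]
    exact Ideal.mul_mem_left _ _ ((mem_secIdeal C).mp ha y hy)
  have hloc : ∀ y : U.1, ∃ (D : Y.Opens) (m : ℕ), y.1 ∈ D ∧ D ≤ U.1 ∧
      ∀ z (_ : z ∈ D) (hz : z ∈ U.1), Y.presheaf.germ U.1 z hz (g ^ m * b) ∈ C z := by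
    rintro ⟨y, hy⟩
    obtain ⟨D₀, c, hyD, hc⟩ := hC y
    obtain ⟨D, hD, hyD', hle⟩ := exists_isAffineOpen_mem_and_subset (U := D₀.1 ⊓ U.1) (x := y) ⟨hyD, hy⟩
    have hD0 : D ≤ D₀.1 := fun z hz => (hle hz).1
    have hDU : D ≤ U.1 := fun z hz => (hle hz).2
    let g' := Y.presheaf.map (homOfLE hDU).op g
    let b' := Y.presheaf.map (homOfLE hDU).op b
    let c' := Y.presheaf.map (homOfLE hD0).op c
    have hsub : Y.basicOpen g' ≤ D := Y.basicOpen_le g'
    letI := (Y.presheaf.map (homOfLE (Y.basicOpen_le g')).op).hom.toAlgebra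
    haveI := hD.isLocalization_basicOpen g'
    have hmem : algebraMap Γ(Y, D) Γ(Y, Y.basicOpen g') b' ∈
        Ideal.span {algebraMap Γ(Y, D) Γ(Y, Y.basicOpen g') c'} := by
      refine mem_span_of_germ ⟨Y.basicOpen g', hD.basicOpen g'⟩ fun z hz => ?_
      simp only [RingHom.algebraMap_toAlgebra, TopCat.Presheaf.germ_res_apply, b', c']
      rw [← (hc z (hD0 (hsub hz))).1]
      refine hbmem z ?_
      have : z ∈ Y.basicOpen g' := hz
      simp only [g', Scheme.basicOpen_res] at this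
      exact this.2
    rw [← Set.image_singleton, ← Ideal.map_span,
      IsLocalization.algebraMap_mem_map_algebraMap_iff (Submonoid.powers g')] at hmem
    obtain ⟨_, ⟨m, rfl⟩, hm⟩ := hmem
    refine ⟨D, m, hyD', hDU, fun z hzD hz => ?_⟩
    rw [(hc z (hD0 hzD)).1]
    obtain ⟨w, hw⟩ := Ideal.mem_span_singleton'.mp hm
    refine Ideal.mem_span_singleton'.mpr ⟨Y.presheaf.germ D z hzD w, ?_⟩
    have h3 := congrArg (Y.presheaf.germ D z hzD) hw
    simp only [map_mul, map_pow, g', b', c', TopCat.Presheaf.germ_res_apply] at h3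
    rw [map_mul, map_pow]
    exact h3
  choose D m hyD hDU hDm using hloc
  obtain ⟨s, hs⟩ := U.2.isCompact.elim_finite_subcover (fun y : U.1 => (D y : Set Y)) (fun y => (D y).2)
    (fun z hz => Set.mem_iUnion.mpr ⟨⟨z, hz⟩, hyD _⟩)
  let M := s.sup m
  have hbM : g ^ M * b ∈ secIdeal C U.1 := by
    refine (mem_secIdeal C).mpr fun z hz => ?_
    obtain ⟨y, hy, hzy⟩ := Set.mem_iUnion₂.mp (hs hz)
    obtain ⟨d, hd⟩ := pow_dvd_pow g (Finset.le_sup (f := m) hy)
    rw [hd, mul_right_comm, map_mul]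
    exact Ideal.mul_mem_right _ _ (hDm y z hzy hz)
  have h4 : algebraMap Γ(Y, U.1) Γ(Y, Y.basicOpen g) (g ^ M * b) =
      (algebraMap Γ(Y, U.1) Γ(Y, Y.basicOpen g) (g ^ M) * algebraMap Γ(Y, U.1) Γ(Y, Y.basicOpen g) (g ^ k)) * a := by
    rw [map_mul, mul_assoc, mul_comm _ a]
    exact congrArg _ hb.symm
  have h5 : algebraMap Γ(Y, U.1) Γ(Y, Y.basicOpen g) (g ^ M * b) ∈
      (secIdeal C U.1).map (Y.presheaf.map (homOfLE (Y.basicOpen_le g)).op).hom := Ideal.mem_map_of_mem _ hbM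
  rw [h4] at h5
  exact (Ideal.unit_mul_mem_iff_mem _
    ((IsLocalization.map_units _ (⟨g ^ M, M, rfl⟩ : Submonoid.powers g)).mul hgu)).mp h5

/-- The effective Cartier ideal sheaf with prescribed stalks. -/
theorem exists_isEffCartier_gI_eq :
    ∃ I : Y.IdealSheafData, BlowUp.IsEffCartierIdeal I ∧ ∀ y, gI I y = C y := by
  classical
  let Z : Set Y := {y | C y ≠ ⊤}
  have hnd : ∀ (U : Y.affineOpens) (y : Y) (hy : y ∈ U.1),
      y ∈ Y.zeroLocus (U := U.1) (secIdeal C U.1 : Set Γ(Y, U.1)) ∩ U.1 ↔ y ∈ Z := by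
    intro U y hy
    rw [Set.mem_inter_iff, Scheme.mem_zeroLocus_iff]
    constructor
    · rintro ⟨h, -⟩ htop
      obtain ⟨D₀, c, hyD, hc⟩ := hC y
      have hyb : y ∈ Y.basicOpen c := by
        rw [Scheme.mem_basicOpen _ _ _ hyD, ← Ideal.span_singleton_eq_top, ← (hc y hyD).1]
        exact htop
      obtain ⟨g, hg, hyg⟩ := U.2.exists_basicOpen_le (V := Y.basicOpen c) ⟨y, hyb⟩ hy
      have h1 : (1 : Γ(Y, Y.basicOpen g)) ∈ secIdeal C (Y.basicOpen g) := by
        refine (mem_secIdeal C).mpr fun z hz => ?_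
        have hzc := hg hz
        have hzD : z ∈ D₀.1 := Y.basicOpen_le c hzc
        rw [map_one, (hc z hzD).1, Ideal.span_singleton_eq_top.mpr ((Scheme.mem_basicOpen _ _ _ hzD).mp hzc)]
        trivial
      rw [← map_secIdeal C hC U g] at h1
      letI := (Y.presheaf.map (homOfLE (Y.basicOpen_le g)).op).hom.toAlgebra
      haveI := U.2.isLocalization_basicOpen g
      obtain ⟨⟨⟨a, ha⟩, ⟨_, n, rfl⟩⟩, hsa⟩ := (IsLocalization.mem_map_algebraMap_iff (Submonoid.powers g)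
        Γ(Y, Y.basicOpen g)).mp h1
      rw [one_mul] at hsa
      refine h a ha ?_
      have : Y.basicOpen g ≤ Y.basicOpen a := by
        intro z hz
        have hu : IsUnit (algebraMap Γ(Y, U.1) Γ(Y, Y.basicOpen g) a) :=
          hsa ▸ IsLocalization.map_units _ (⟨g ^ n, n, rfl⟩ : Submonoid.powers g)
        have := hu.map (Y.presheaf.germ (Y.basicOpen g) z hz).hom
        rw [RingHom.algebraMap_toAlgebra] at this
        rw [Scheme.mem_basicOpen _ _ _ (Y.basicOpen_le g hz)]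
        erw [TopCat.Presheaf.germ_res_apply] at this
        exact this
      exact this hyg
    · refine fun h => ⟨fun a ha hya => h ?_, hy⟩
      exact Ideal.eq_top_of_isUnit_mem _ ((mem_secIdeal C).mp ha y hy) ((Scheme.mem_basicOpen _ _ _ hy).mp hya)
  let I : Y.IdealSheafData := Scheme.IdealSheafData.mkOfMemSupportIff (fun U => secIdeal C U.1)
    (fun U g => map_secIdeal C hC U g) Z (fun U y hy => by
      have h1 := hnd U y hy
      rw [Set.mem_inter_iff] at h1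
      exact h1.symm.trans ⟨fun h => h.1, fun h => ⟨h, hy⟩⟩)
  have hI : ∀ U : Y.affineOpens, I.ideal U = secIdeal C U.1 := fun U => rfl
  have hgen : ∀ (D : Y.affineOpens) (c : Γ(Y, D.1)),
      (∀ z (hz : z ∈ D.1), C z = Ideal.span {Y.presheaf.germ D.1 z hz c}) → I.ideal D = Ideal.span {c} := by
    intro D c hc
    rw [hI]
    refine le_antisymm (fun a ha => mem_span_of_germ D fun z hz => hc z hz ▸ (mem_secIdeal C).mp ha z hz)
      ((Ideal.span_singleton_le_iff_mem _).mpr ((mem_secIdeal C).mpr fun z hz => ?_))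
    rw [hc z hz]
    exact Ideal.mem_span_singleton_self _
  refine ⟨I, fun y => ?_, fun y => ?_⟩
  · obtain ⟨D, c, hyD, hc⟩ := hC y
    exact ⟨D, hyD, c, mem_nonZeroDivisors_of_germ D fun z hz => (hc z hz).2,
      hgen D c fun z hz => (hc z hz).1⟩
  · obtain ⟨D, c, hyD, hc⟩ := hC y
    rw [gI_eq I D hyD, hgen D c fun z hz => (hc z hz).1, Ideal.map_span, Set.image_singleton]
    exact (hc y hyD).1.symm

end Glue

end Groth.Agent.Div38
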