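import Mathlib
import Groth.Agent.DepthLib.Basic

/-!
# Descent of principal ideals along flat maps at points of depth at least two
-/

set_option linter.style.haveILetI false
set_option maxHeartbeats 800000

universe u

open IsLocalRing TensorProduct

namespace Groth.Agent.Div38

/-- `c` and `d` generate the same ideal at `Q`. -/
def EqAt {H : Type*} [CommRing H] (Q : Ideal H) (c d : H) : Prop :=
  ∃ u ∉ Q, u * c ∈ Ideal.span {d} ∧ u * d ∈ Ideal.span {c}

section EqAt

variable {H : Type*} [CommRing H] {Q : Ideal H} {c d e : H}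

lemma EqAt.symm (h : EqAt Q c d) : EqAt Q d c := by
  obtain ⟨u, hu, h1, h2⟩ := h
  exact ⟨u, hu, h2, h1⟩

lemma EqAt.trans [Q.IsPrime] (h : EqAt Q c d) (h' : EqAt Q d e) : EqAt Q c e := by
  obtain ⟨u, hu, h1, h2⟩ := h
  obtain ⟨v, hv, h3, h4⟩ := h'
  refine ⟨u * v, fun H => (Ideal.IsPrime.mem_or_mem ‹_› H).elim hu hv, ?_, ?_⟩
  · obtain ⟨w, hw⟩ := Ideal.mem_span_singleton'.mp h1
    rw [mul_right_comm, ← hw, mul_assoc, mul_comm d]
    exact Ideal.mul_mem_left _ _ h3
  · obtain ⟨w, hw⟩ := Ideal.mem_span_singleton'.mp h4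
    rw [mul_assoc, ← hw, mul_left_comm]
    exact Ideal.mul_mem_left _ _ h2

lemma EqAt.mono {Q' : Ideal H} (hle : Q' ≤ Q) (h : EqAt Q c d) : EqAt Q' c d := by
  obtain ⟨u, hu, h1, h2⟩ := h
  exact ⟨u, fun H => hu (hle H), h1, h2⟩

variable (Q) [Q.IsPrime] {L : Type*} [CommRing L] [Algebra H L] [IsLocalization.AtPrime L Q]

lemma mem_span_img_iff : algebraMap H L c ∈ Ideal.span {algebraMap H L d} ↔
    ∃ u ∉ Q, u * c ∈ Ideal.span {d} := by
  rw [← Set.image_singleton, ← Ideal.map_span,
    IsLocalization.algebraMap_mem_map_algebraMap_iff Q.primeCompl]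
  exact Iff.rfl

lemma eqAt_iff : EqAt Q c d ↔ Ideal.span {algebraMap H L c} = Ideal.span {algebraMap H L d} := by
  rw [le_antisymm_iff, Ideal.span_singleton_le_iff_mem, Ideal.span_singleton_le_iff_mem,
    mem_span_img_iff Q, mem_span_img_iff Q]
  constructor
  · rintro ⟨u, hu, h1, h2⟩
    exact ⟨⟨u, hu, h1⟩, ⟨u, hu, h2⟩⟩
  · rintro ⟨⟨u, hu, h1⟩, ⟨v, hv, h2⟩⟩
    refine ⟨u * v, fun H => (Ideal.IsPrime.mem_or_mem ‹_› H).elim hu hv, ?_, ?_⟩
    · rw [mul_right_comm]; exact Ideal.mul_mem_right _ _ h1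
    · rw [mul_assoc]; exact Ideal.mul_mem_left _ _ h2

end EqAt

section Sat

variable {R : Type*} [CommRing R] {a b : R}

/-- Saturation of a principal ideal with respect to a regular sequence. -/
lemma mem_span_of_mul_mem {t : R} (ha : IsSMulRegular R a)
    (hb : IsSMulRegular (QuotSMulTop a R) b) (ht : t ∈ nonZeroDivisors R) {z : R}
    (h1 : a * z ∈ Ideal.span {t}) (h2 : b * z ∈ Ideal.span {t}) : z ∈ Ideal.span {t} := by
  obtain ⟨u, hu⟩ := Ideal.mem_span_singleton'.mp h1
  obtain ⟨v, hv⟩ := Ideal.mem_span_singleton'.mp h2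
  have h3 : b * u = a * v := by
    refine (mul_cancel_right_mem_nonZeroDivisors ht).mp ?_
    rw [mul_assoc, hu, mul_assoc, hv, mul_left_comm]
  have h4 : b • (Submodule.Quotient.mk u : QuotSMulTop a R) = b • (0 : QuotSMulTop a R) := by
    rw [smul_zero, ← Submodule.Quotient.mk_smul, Submodule.Quotient.mk_eq_zero, smul_eq_mul, h3]
    exact ⟨v, trivial, rfl⟩
  obtain ⟨w, -, hw⟩ := (Submodule.Quotient.mk_eq_zero _).mp (hb h4)
  refine Ideal.mem_span_singleton'.mpr ⟨w, ha ?_⟩
  change a * (w * t) = a * z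
  rw [← mul_assoc, show a * w = u from hw, hu]

lemma mem_of_pow_mul_mem {I : Ideal R} (hstep : ∀ z, a * z ∈ I → b * z ∈ I → z ∈ I) :
    ∀ (n i j : ℕ) (z : R), i + j = n → a ^ i * z ∈ I → b ^ j * z ∈ I → z ∈ I := by
  intro n
  induction n with
  | zero =>
    intro i j z h h1 _
    obtain rfl : i = 0 := by omega
    rwa [pow_zero, one_mul] at h1
  | succ n ih =>
    intro i j z h h1 h2
    rcases i with _ | i
    · rwa [pow_zero, one_mul] at h1
    rcases j with _ | j
    · rwa [pow_zero, one_mul] at h2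
    refine hstep z (ih i (j + 1) (a * z) (by omega) ?_ ?_) (ih (i + 1) j (b * z) (by omega) ?_ ?_)
    · rwa [← mul_assoc, ← pow_succ]
    · rw [mul_left_comm]; exact Ideal.mul_mem_left _ _ h2
    · rw [mul_left_comm]; exact Ideal.mul_mem_left _ _ h1
    · rwa [← mul_assoc, ← pow_succ]

lemma mem_of_forall_prime {I : Ideal R} (hstep : ∀ z, a * z ∈ I → b * z ∈ I → z ∈ I) {t : R}
    (h : ∀ Q : Ideal R, Q.IsPrime → (∀ x, x * t ∈ I → x ∈ Q) → a ∈ Q ∧ b ∈ Q) : t ∈ I := by
  let L : Ideal R := Submodule.comap (LinearMap.toSpanSingleton R R t) I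
  have hrad : a ∈ L.radical ∧ b ∈ L.radical := by
    rw [Ideal.radical_eq_sInf, Submodule.mem_sInf, Submodule.mem_sInf]
    exact ⟨fun Q hQ => (h Q hQ.2 fun x hx => hQ.1 hx).1, fun Q hQ => (h Q hQ.2 fun x hx => hQ.1 hx).2⟩
  obtain ⟨i, hi⟩ := hrad.1
  obtain ⟨j, hj⟩ := hrad.2
  exact mem_of_pow_mul_mem hstep _ i j t rfl hi hj

end Sat

variable {G H : Type u} [CommRing G] [CommRing H] [Algebra G H]

lemma faithfullyFlat_localization [Module.Flat G H] (p : Ideal G) [p.IsPrime] (Q : Ideal H) [Q.IsPrime]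
    [Q.LiesOver p] [Algebra (Localization.AtPrime p) (Localization.AtPrime Q)]
    [IsScalarTower G (Localization.AtPrime p) (Localization.AtPrime Q)]
    [IsLocalHom (algebraMap (Localization.AtPrime p) (Localization.AtPrime Q))] :
    Module.FaithfullyFlat (Localization.AtPrime p) (Localization.AtPrime Q) := by
  haveI : Module.Flat G (Localization.AtPrime Q) :=
    Module.Flat.trans G H (Localization.AtPrime Q)
  haveI : Module.Flat (Localization.AtPrime p) (Localization.AtPrime Q) :=
    (Module.flat_iff_of_isLocalization (Localization.AtPrime p) p.primeCompl _).mpr inferInstance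
  exact Module.FaithfullyFlat.of_flat_of_isLocalHom

/-- Faithfully flat descent of equality of principal ideals. -/
lemma EqAt.descend [Module.Flat G H] (p : Ideal G) [p.IsPrime] (Q : Ideal H) [Q.IsPrime]
    (hp : Q.comap (algebraMap G H) = p) {c d : G}
    (h : EqAt Q (algebraMap G H c) (algebraMap G H d)) : EqAt p c d := by
  haveI : Q.LiesOver p := ⟨hp.symm⟩
  letI : Algebra (Localization.AtPrime p) (Localization.AtPrime Q) :=
    (Localization.localRingHom p Q (algebraMap G H) hp.symm).toAlgebra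
  haveI : IsScalarTower G (Localization.AtPrime p) (Localization.AtPrime Q) :=
    .of_algebraMap_eq fun x => by
      rw [RingHom.algebraMap_toAlgebra, Localization.localRingHom_to_map, ← IsScalarTower.algebraMap_apply]
  haveI : IsLocalHom (algebraMap (Localization.AtPrime p) (Localization.AtPrime Q)) :=
    Localization.isLocalHom_localRingHom p Q (algebraMap G H) hp.symm
  haveI := faithfullyFlat_localization p Q
  rw [eqAt_iff p (L := Localization.AtPrime p)]
  rw [eqAt_iff Q (L := Localization.AtPrime Q), ← IsScalarTower.algebraMap_apply,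
    ← IsScalarTower.algebraMap_apply, IsScalarTower.algebraMap_apply G (Localization.AtPrime p),
    IsScalarTower.algebraMap_apply G (Localization.AtPrime p) (Localization.AtPrime Q) d,
    ← Set.image_singleton, ← Set.image_singleton (a := algebraMap G (Localization.AtPrime p) d),
    ← Ideal.map_span, ← Ideal.map_span] at h
  exact (Ideal.comap_map_eq_self_of_faithfullyFlat _).symm.trans
    ((congrArg (Ideal.comap _) h).trans (Ideal.comap_map_eq_self_of_faithfullyFlat _))

lemma EqAt.lift {p : Ideal G} (Q : Ideal H) (hp : Q.comap (algebraMap G H) ≤ p) {c d : G}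
    (h : EqAt p c d) : EqAt Q (algebraMap G H c) (algebraMap G H d) := by
  obtain ⟨u, hu, h1, h2⟩ := h
  obtain ⟨v, hv⟩ := Ideal.mem_span_singleton'.mp h1
  obtain ⟨w, hw⟩ := Ideal.mem_span_singleton'.mp h2
  exact ⟨algebraMap G H u, fun H' => hu (hp H'),
    Ideal.mem_span_singleton'.mpr ⟨algebraMap G H v, by rw [← map_mul, ← map_mul, hv]⟩,
    Ideal.mem_span_singleton'.mpr ⟨algebraMap G H w, by rw [← map_mul, ← map_mul, hw]⟩⟩

/-- Equality at all primes over generisations of `p` spreads to a basic open. -/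
lemma exists_nhd_eqAt (p : Ideal G) [p.IsPrime] {c t : H}
    (h : ∀ Q : Ideal H, Q.IsPrime → Q.comap (algebraMap G H) ≤ p → EqAt Q c t) :
    ∃ s ∉ p, algebraMap G H s * c ∈ Ideal.span {t} ∧ algebraMap G H s * t ∈ Ideal.span {c} := by
  let L : Ideal H := Submodule.comap (LinearMap.toSpanSingleton H H c) (Ideal.span {t}) ⊓
    Submodule.comap (LinearMap.toSpanSingleton H H t) (Ideal.span {c})
  by_contra hcon
  obtain ⟨Q, hQ, hLQ, hdis⟩ := Ideal.exists_le_prime_disjoint L
    (Algebra.algebraMapSubmonoid H p.primeCompl) (Set.disjoint_left.mpr fun x hx hx' => by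
      obtain ⟨s, hs, rfl⟩ := hx'
      exact hcon ⟨s, hs, hx.1, hx.2⟩)
  obtain ⟨u, hu, h1, h2⟩ := h Q hQ fun g hg => by
    by_contra hgp
    exact (Set.disjoint_left.mp hdis) (show algebraMap G H g ∈ Q from hg) ⟨g, hgp, rfl⟩
  exact hu (hLQ ⟨h1, h2⟩)

variable [IsNoetherianRing G]

lemma exists_regular_pair (p : Ideal G) [p.IsPrime]
    (hd : 2 ≤ LocCoh.depth (Localization.AtPrime p) (Localization.AtPrime p)) :
    ∃ a b : Localization.AtPrime p, a ∈ maximalIdeal _ ∧ b ∈ maximalIdeal _ ∧
      RingTheory.Sequence.IsWeaklyRegular (Localization.AtPrime p) [a, b] := by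
  obtain ⟨rs, hlen, hreg, hmem⟩ :=
    (Groth.Agent.DepthLib.natCast_le_depth_iff (n := 2)).mp (by exact_mod_cast hd)
  match rs, hlen with
  | [a, b], _ => exact ⟨a, b, hmem a (by simp), hmem b (by simp), hreg⟩

omit [IsNoetherianRing G] in
lemma regular_of_weaklyRegular {R : Type*} [CommRing R] {a b : R}
    (h : RingTheory.Sequence.IsWeaklyRegular R [a, b]) :
    IsSMulRegular R a ∧ IsSMulRegular (QuotSMulTop a R) b := by
  obtain ⟨h1, h2⟩ := (RingTheory.Sequence.isWeaklyRegular_cons_iff R a [b]).mp h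
  exact ⟨h1, ((RingTheory.Sequence.isWeaklyRegular_cons_iff _ b []).mp h2).1⟩

omit [IsNoetherianRing G] in
/-- Two nonzerodivisor equations agreeing at all proper generisations of a depth two prime agree. -/
lemma eqAt_of_punctured (p₀ : Ideal G) [p₀.IsPrime] {a b : Localization.AtPrime p₀}
    (ha : a ∈ maximalIdeal _) (hb : b ∈ maximalIdeal _)
    (hreg : RingTheory.Sequence.IsWeaklyRegular (Localization.AtPrime p₀) [a, b]) {c d : G}
    (hc : algebraMap G (Localization.AtPrime p₀) c ∈ nonZeroDivisors (Localization.AtPrime p₀))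
    (hd : algebraMap G (Localization.AtPrime p₀) d ∈ nonZeroDivisors (Localization.AtPrime p₀))
    (h : ∀ p : Ideal G, p.IsPrime → p < p₀ → EqAt p c d) : EqAt p₀ c d := by
  obtain ⟨hra, hrb⟩ := regular_of_weaklyRegular hreg
  rw [eqAt_iff p₀ (L := Localization.AtPrime p₀)]
  suffices key : ∀ c d : G, algebraMap G (Localization.AtPrime p₀) d ∈ nonZeroDivisors _ →
      (∀ p : Ideal G, p.IsPrime → p < p₀ → EqAt p c d) →
      algebraMap G (Localization.AtPrime p₀) c ∈ Ideal.span {algebraMap G (Localization.AtPrime p₀) d} from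
    le_antisymm ((Ideal.span_singleton_le_iff_mem _).mpr (key c d hd h))
      ((Ideal.span_singleton_le_iff_mem _).mpr (key d c hc fun p hp hlt => (h p hp hlt).symm))
  intro c d hd h
  refine mem_of_forall_prime (a := a) (b := b) (fun z h1 h2 => mem_span_of_mul_mem hra hrb hd h1 h2)
    fun Q hQ hQL => ?_
  have hle : Q.comap (algebraMap G (Localization.AtPrime p₀)) ≤ p₀ := by
    intro g hg
    have := le_maximalIdeal hQ.ne_top hg
    rwa [IsLocalization.AtPrime.to_map_mem_maximal_iff (Localization.AtPrime p₀) p₀] at this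
  rcases hle.lt_or_eq with hlt | heq
  · exfalso
    obtain ⟨u, hu, h1, -⟩ := h _ inferInstance hlt
    obtain ⟨w, hw⟩ := Ideal.mem_span_singleton'.mp h1
    refine hu (hQL _ (Ideal.mem_span_singleton'.mpr ⟨algebraMap G _ w, ?_⟩))
    rw [← map_mul, hw, map_mul]
  · have hQm : Q = maximalIdeal _ := by
      rw [← IsLocalization.map_under p₀.primeCompl (Localization.AtPrime p₀) Q,
        ← IsLocalization.AtPrime.map_eq_maximalIdeal p₀ (Localization.AtPrime p₀)]
      exact congrArg (Ideal.map _) heq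
    exact ⟨hQm ▸ ha, hQm ▸ hb⟩

/-- The core: a principal ideal descends at a point of depth at least two once it descends at all
proper generisations. -/
theorem exists_gen_of_punctured [Module.Flat G H] (p₀ : Ideal G) [p₀.IsPrime] (𝔮 : Ideal H) [𝔮.IsPrime]
    (hp₀ : 𝔮.comap (algebraMap G H) = p₀) {a b : Localization.AtPrime p₀}
    (ha : a ∈ maximalIdeal _) (hb : b ∈ maximalIdeal _)
    (hreg : RingTheory.Sequence.IsWeaklyRegular (Localization.AtPrime p₀) [a, b]) (t : H)
    (ht : algebraMap H (Localization.AtPrime 𝔮) t ∈ nonZeroDivisors (Localization.AtPrime 𝔮))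
    (hpunct : ∀ p : Ideal G, p.IsPrime → p < p₀ → ∃ c : G, ∀ Q : Ideal H, Q.IsPrime →
      Q.comap (algebraMap G H) ≤ p → EqAt Q (algebraMap G H c) t) :
    ∃ c : G, EqAt 𝔮 (algebraMap G H c) t ∧
      algebraMap G (Localization.AtPrime p₀) c ∈ nonZeroDivisors (Localization.AtPrime p₀) := by
  haveI : 𝔮.LiesOver p₀ := ⟨hp₀.symm⟩
  let A := Localization.AtPrime p₀
  let B := Localization.AtPrime 𝔮
  letI : Algebra A B := (Localization.localRingHom p₀ 𝔮 (algebraMap G H) hp₀.symm).toAlgebra
  haveI : IsScalarTower G A B :=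
    .of_algebraMap_eq fun x => by
      rw [RingHom.algebraMap_toAlgebra, Localization.localRingHom_to_map, ← IsScalarTower.algebraMap_apply]
  haveI : IsLocalHom (algebraMap A B) :=
    Localization.isLocalHom_localRingHom p₀ 𝔮 (algebraMap G H) hp₀.symm
  haveI : Module.FaithfullyFlat A B := faithfullyFlat_localization p₀ 𝔮
  set t' := algebraMap H B t
  obtain ⟨hra, hrb⟩ := regular_of_weaklyRegular (hreg.of_flat (S := B))
  let I : Ideal A := (Ideal.span {t'}).comap (algebraMap A B)
  have hI : ∀ z : A, a * z ∈ I → b * z ∈ I → z ∈ I := fun z h1 h2 => by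
    change algebraMap A B z ∈ Ideal.span {t'}
    refine mem_span_of_mul_mem hra hrb ht ?_ ?_
    · rw [← map_mul]; exact h1
    · rw [← map_mul]; exact h2
  let φ : (A ⧸ I) →ₗ[A] (A ⧸ I) × (A ⧸ I) :=
    (LinearMap.lsmul A (A ⧸ I) a).prod (LinearMap.lsmul A (A ⧸ I) b)
  have hφ : Function.Injective φ := by
    rw [injective_iff_map_eq_zero]
    intro x hx
    obtain ⟨z, rfl⟩ := Ideal.Quotient.mk_surjective x
    exact Ideal.Quotient.eq_zero_iff_mem.mpr (hI z
      (Ideal.Quotient.eq_zero_iff_mem.mp (congrArg Prod.fst hx))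
      (Ideal.Quotient.eq_zero_iff_mem.mp (congrArg Prod.snd hx)))
  let e := Algebra.TensorProduct.quotIdealMapEquivTensorQuot B I
  have hsat : ∀ z : B, algebraMap A B a * z ∈ I.map (algebraMap A B) →
      algebraMap A B b * z ∈ I.map (algebraMap A B) → z ∈ I.map (algebraMap A B) := by
    have he : ∀ (z : B), z ∈ I.map (algebraMap A B) ↔ z ⊗ₜ[A] (1 : A ⧸ I) = 0 := fun z => by
      rw [← Ideal.Quotient.eq_zero_iff_mem]
      rw [← Algebra.TensorProduct.quotIdealMapEquivTensorQuot_mk B I z]
      exact (map_eq_zero_iff e e.injective).symm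
    intro z h1 h2
    rw [he] at h1 h2 ⊢
    have hsm : ∀ x : A, (z ⊗ₜ[A] (x • (1 : A ⧸ I))) = (algebraMap A B x * z) ⊗ₜ[A] (1 : A ⧸ I) := fun x => by
      rw [← TensorProduct.smul_tmul, Algebra.smul_def]
    refine Module.Flat.lTensor_preserves_injective_linearMap (M := B) φ hφ ?_
    rw [map_zero, LinearMap.lTensor_tmul]
    apply (TensorProduct.prodRight A A B (A ⧸ I) (A ⧸ I)).injective
    rw [map_zero, TensorProduct.prodRight_tmul]
    exact Prod.ext ((hsm a).trans h1) ((hsm b).trans h2)
  have htI : t' ∈ I.map (algebraMap A B) := by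
    refine mem_of_forall_prime (a := algebraMap A B a) (b := algebraMap A B b) hsat fun Q hQ hQL => ?_
    let P := Q.comap (algebraMap H B)
    have hP : P ≤ 𝔮 := fun g hg => by
      have := le_maximalIdeal hQ.ne_top (show algebraMap H B g ∈ Q from hg)
      rwa [IsLocalization.AtPrime.to_map_mem_maximal_iff B 𝔮] at this
    rcases ((Ideal.comap_mono hP).trans hp₀.le).lt_or_eq with hlt | heq
    · exfalso
      obtain ⟨c, hc⟩ := hpunct (P.comap (algebraMap G H)) inferInstance hlt
      obtain ⟨s, hs, h1, h2⟩ := exists_nhd_eqAt (P.comap (algebraMap G H)) hc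
      obtain ⟨w, hw⟩ := Ideal.mem_span_singleton'.mp h2
      obtain ⟨v, hv⟩ := Ideal.mem_span_singleton'.mp h1
      have hcI : algebraMap G A (s * c) ∈ I := by
        refine Ideal.mem_span_singleton'.mpr ⟨algebraMap H B v, ?_⟩
        rw [← IsScalarTower.algebraMap_apply, IsScalarTower.algebraMap_apply G H B, map_mul,
          ← hv, map_mul (algebraMap H B)]
      have hmem : algebraMap H B (algebraMap G H s * algebraMap G H s) * t' ∈ I.map (algebraMap A B) := by
        have : algebraMap G H s * algebraMap G H s * t = w * algebraMap G H (s * c) := by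
          rw [map_mul, mul_assoc, ← hw]; ring
        rw [← map_mul, this, map_mul, ← IsScalarTower.algebraMap_apply G H B,
          IsScalarTower.algebraMap_apply G A B]
        exact Ideal.mul_mem_left _ _ (Ideal.mem_map_of_mem _ hcI)
      have hsP : algebraMap G H s * algebraMap G H s ∈ P := hQL _ hmem
      exact hs ((Ideal.IsPrime.mem_or_mem inferInstance hsP).elim id id)
    · have hQA : Q.comap (algebraMap A B) = maximalIdeal A := by
        rw [← IsLocalization.map_under p₀.primeCompl A (Q.comap (algebraMap A B)),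
          ← IsLocalization.AtPrime.map_eq_maximalIdeal p₀ A]
        refine congrArg (Ideal.map _) ?_
        show (Q.comap (algebraMap A B)).comap (algebraMap G A) = p₀
        rw [Ideal.comap_comap, ← IsScalarTower.algebraMap_eq, IsScalarTower.algebraMap_eq G H B,
          ← Ideal.comap_comap]
        exact heq
      exact ⟨hQA.ge ha, hQA.ge hb⟩
  obtain ⟨i, hiI, hit⟩ : ∃ i ∈ I, Ideal.span {algebraMap A B i} = Ideal.span {t'} := by
    by_contra hcon
    push Not at hcon
    have hle : I.map (algebraMap A B) ≤ maximalIdeal B * Ideal.span {t'} := by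
      refine Ideal.map_le_iff_le_comap.mpr fun i hi => ?_
      obtain ⟨v, hv⟩ := Ideal.mem_span_singleton'.mp (hi : algebraMap A B i ∈ Ideal.span {t'})
      refine Ideal.mem_comap.mpr (hv ▸ Ideal.mul_mem_mul ?_ (Ideal.mem_span_singleton_self t'))
      by_contra hvm
      refine hcon i hi ?_
      rw [← hv]
      exact Ideal.span_singleton_mul_left_unit (IsLocalRing.notMem_maximalIdeal.mp hvm) t'
    obtain ⟨v, hv, hvt⟩ := Ideal.mem_mul_span_singleton.mp (hle htI)
    have hu : IsUnit (1 - v) := IsLocalRing.isUnit_one_sub_self_of_mem_nonunits v hv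
    have h0 : (1 - v) * t' = 0 := by rw [sub_mul, one_mul, hvt, sub_self]
    have ht0 : t' = 0 := hu.mul_right_eq_zero.mp h0
    rw [ht0] at ht
    exact zero_notMem_nonZeroDivisors ht
  obtain ⟨c, s, rfl⟩ := IsLocalization.exists_mk'_eq p₀.primeCompl i
  have hcs : Ideal.span {algebraMap G B c} = Ideal.span {t'} := by
    rw [← hit]
    have : algebraMap G B c = algebraMap G B s * algebraMap A B (IsLocalization.mk' A c s) := by
      rw [IsScalarTower.algebraMap_apply G A B c, IsScalarTower.algebraMap_apply G A B s, ← map_mul,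
        IsLocalization.mk'_spec']
    rw [this, Ideal.span_singleton_mul_left_unit]
    exact (IsScalarTower.algebraMap_apply G A B s).symm ▸ ((IsLocalization.map_units A s).map (algebraMap A B))
  refine ⟨c, ?_, ?_⟩
  · rw [eqAt_iff 𝔮 (L := B), ← IsScalarTower.algebraMap_apply]
    exact hcs
  · rw [mem_nonZeroDivisors_iff_right]
    intro x hx
    have hinj := FaithfulSMul.algebraMap_injective A B
    refine hinj ?_
    rw [map_zero]
    have h1 : algebraMap A B x * algebraMap G B c = 0 := by
      rw [IsScalarTower.algebraMap_apply G A B, ← map_mul, hx, map_zero]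
    obtain ⟨r, hr⟩ := Ideal.mem_span_singleton'.mp (hcs.ge (Ideal.mem_span_singleton_self t'))
    refine (mem_nonZeroDivisors_iff_right.mp ht) _ ?_
    rw [← hr, mul_left_comm, h1, mul_zero]

end Groth.Agent.Div38
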