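import Groth.Agent.Div38.Glue
import Groth.Agent.S1412

/-!
# Descent of effective Cartier divisors at points of depth at most one
-/

set_option linter.style.haveILetI false
set_option maxHeartbeats 1000000

universe u

open CategoryTheory CategoryTheory.Limits AlgebraicGeometry TopologicalSpace

namespace Groth.Agent.Div38

open DivCodimTwo InvExtend

variable {X Y : Scheme.{u}} (f : X ⟶ Y) (J : X.IdealSheafData)

/-- The generisations of `y` see `J` as generated by `c`. -/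
def Sol (W : Y.Opens) (y : Y) (c : Γ(Y, W)) : Prop :=
  ∀ (x : X) (hx : f x ∈ W), f x ⤳ y →
    gI J x = Ideal.span {X.presheaf.germ (f ⁻¹ᵁ W) x hx (f.app W c)}

variable {f J}

lemma faithfullyFlat_stalkMap [Flat f] (x : X) :
    letI := (f.stalkMap x).hom.toAlgebra
    Module.FaithfullyFlat (Y.presheaf.stalk (f x)) (X.presheaf.stalk x) := by
  letI := (f.stalkMap x).hom.toAlgebra
  haveI : IsLocalHom (algebraMap (Y.presheaf.stalk (f x)) (X.presheaf.stalk x)) :=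
    inferInstanceAs (IsLocalHom (f.stalkMap x).hom)
  haveI : Module.Flat (Y.presheaf.stalk (f x)) (X.presheaf.stalk x) := Flat.stalkMap f x
  exact Module.FaithfullyFlat.of_flat_of_isLocalHom

lemma comap_map_stalkMap [Flat f] (x : X) (I : Ideal (Y.presheaf.stalk (f x))) :
    (I.map (f.stalkMap x).hom).comap (f.stalkMap x).hom = I := by
  letI := (f.stalkMap x).hom.toAlgebra
  haveI := faithfullyFlat_stalkMap (f := f) x
  exact Ideal.comap_map_eq_self_of_faithfullyFlat (B := X.presheaf.stalk x) I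

lemma mem_nzd_of_stalkMap [Flat f] (x : X) {r : Y.presheaf.stalk (f x)}
    (h : f.stalkMap x r ∈ nonZeroDivisors (X.presheaf.stalk x)) : r ∈ nonZeroDivisors (Y.presheaf.stalk (f x)) := by
  rw [mem_nonZeroDivisors_iff_right]
  intro a ha
  have h0 : f.stalkMap x a = 0 := by
    refine (mem_nonZeroDivisors_iff_right.mp h) _ ?_
    show (f.stalkMap x).hom a * (f.stalkMap x).hom r = 0
    rw [← map_mul, ha, map_zero]
  have : a ∈ ((⊥ : Ideal (Y.presheaf.stalk (f x))).map (f.stalkMap x).hom).comap (f.stalkMap x).hom := by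
    rw [Ideal.map_bot]; exact h0
  rwa [comap_map_stalkMap x] at this

lemma comap_primeIdealOf {W : Y.affineOpens} {V : X.affineOpens} (e : V.1 ≤ f ⁻¹ᵁ W.1) {x : X} (hx : x ∈ V.1) :
    (V.2.primeIdealOf ⟨x, hx⟩).asIdeal.comap (f.appLE W.1 V.1 e).hom =
      (W.2.primeIdealOf ⟨f x, e hx⟩).asIdeal := by
  ext g
  rw [← not_iff_not, Ideal.mem_comap, ← InvExtend.mem_basicOpen_iff V.2 hx,
    ← InvExtend.mem_basicOpen_iff W.2 (e hx), Scheme.basicOpen_appLE]
  exact ⟨fun h => h.2, fun h => ⟨hx, h⟩⟩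

lemma exists_chart (hJ : BlowUp.IsEffCartierIdeal J) (W : Y.Opens) {x : X} (hx : f x ∈ W) :
    ∃ (V : X.affineOpens) (_ : x ∈ V.1) (_ : V.1 ≤ f ⁻¹ᵁ W) (t : Γ(X, V.1)),
      ∀ z (hz : z ∈ V.1), gI J z = Ideal.span {X.presheaf.germ V.1 z hz t} ∧
        X.presheaf.germ V.1 z hz t ∈ nonZeroDivisors (X.presheaf.stalk z) := by
  obtain ⟨V₀, hxV₀, t₀, ht₀, hV₀⟩ := hJ x
  obtain ⟨V, hV, hxV, hle⟩ := exists_isAffineOpen_mem_and_subset (U := V₀.1 ⊓ f ⁻¹ᵁ W) (x := x) ⟨hxV₀, hx⟩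
  have h0 : V ≤ V₀.1 := fun z hz => (hle hz).1
  refine ⟨⟨V, hV⟩, hxV, fun z hz => (hle hz).2, X.presheaf.map (homOfLE h0).op t₀, fun z hz => ?_⟩
  rw [TopCat.Presheaf.germ_res_apply, gI_eq J V₀ (h0 hz), hV₀, Ideal.map_span, Set.image_singleton]
  refine ⟨rfl, ?_⟩
  letI := TopCat.Presheaf.algebra_section_stalk X.presheaf (⟨z, h0 hz⟩ : V₀.1)
  haveI := V₀.2.isLocalization_stalk ⟨z, h0 hz⟩
  haveI : Module.Flat Γ(X, V₀.1) (X.presheaf.stalk z) :=
    IsLocalization.flat _ (V₀.2.primeIdealOf ⟨z, h0 hz⟩).asIdeal.primeCompl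
  have hreg : IsSMulRegular Γ(X, V₀.1) t₀ := fun a b h =>
    (mul_cancel_left_mem_nonZeroDivisors ht₀).mp h
  have := IsSMulRegular.of_flat (S := X.presheaf.stalk z) hreg
  rw [mem_nonZeroDivisors_iff_right]
  intro a ha
  refine this ?_
  show algebraMap Γ(X, V₀.1) (X.presheaf.stalk z) t₀ * a = algebraMap Γ(X, V₀.1) (X.presheaf.stalk z) t₀ * 0
  rw [mul_zero, mul_comm]
  exact ha

/-- Translation between germs and equality at primes. -/
lemma eqAt_iff_gI {W : Y.affineOpens} {V : X.affineOpens} (e : V.1 ≤ f ⁻¹ᵁ W.1) {x : X} (hx : x ∈ V.1)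
    (c : Γ(Y, W.1)) {t : Γ(X, V.1)} (ht : gI J x = Ideal.span {X.presheaf.germ V.1 x hx t}) :
    EqAt (V.2.primeIdealOf ⟨x, hx⟩).asIdeal (f.appLE W.1 V.1 e c) t ↔
      gI J x = Ideal.span {X.presheaf.germ (f ⁻¹ᵁ W.1) x (e hx) (f.app W.1 c)} := by
  rw [eqAt_germ_iff, ht, germ_appLE e hx, Scheme.Hom.germ_stalkMap_apply, eq_comm]

/-- Transport of equality at a point of the base. -/
lemma germ_eq_of_eqAt {W : Y.affineOpens} {x : X} (hx : f x ∈ W.1) {c d : Γ(Y, W.1)}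
    (h : EqAt (W.2.primeIdealOf ⟨f x, hx⟩).asIdeal c d) :
    Ideal.span {X.presheaf.germ (f ⁻¹ᵁ W.1) x hx (f.app W.1 c)} =
      Ideal.span {X.presheaf.germ (f ⁻¹ᵁ W.1) x hx (f.app W.1 d)} := by
  rw [← span_stalkMap_germ hx c, ← span_stalkMap_germ hx d, (eqAt_germ_iff W hx c d).mp h]

lemma eqAt_of_germ_eq [Flat f] {W : Y.affineOpens} {x : X} (hx : f x ∈ W.1) {c d : Γ(Y, W.1)}
    (h : Ideal.span {X.presheaf.germ (f ⁻¹ᵁ W.1) x hx (f.app W.1 c)} =
      Ideal.span {X.presheaf.germ (f ⁻¹ᵁ W.1) x hx (f.app W.1 d)}) :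
    EqAt (W.2.primeIdealOf ⟨f x, hx⟩).asIdeal c d := by
  rw [← span_stalkMap_germ hx c, ← span_stalkMap_germ hx d] at h
  rw [eqAt_germ_iff]
  exact (comap_map_stalkMap x _).symm.trans ((congrArg (Ideal.comap _) h).trans (comap_map_stalkMap x _))

lemma mem_nzd_of_gI [Flat f] (hJ : BlowUp.IsEffCartierIdeal J) {W : Y.Opens} {x : X} (hx : f x ∈ W)
    {c : Γ(Y, W)} (h : gI J x = Ideal.span {X.presheaf.germ (f ⁻¹ᵁ W) x hx (f.app W c)}) :
    Y.presheaf.germ W (f x) hx c ∈ nonZeroDivisors (Y.presheaf.stalk (f x)) := by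
  obtain ⟨V, hxV, -, t, ht⟩ := exists_chart (f := f) hJ W hx
  refine mem_nzd_of_stalkMap x ?_
  rw [Scheme.Hom.germ_stalkMap_apply]
  obtain ⟨r, hr⟩ := Ideal.mem_span_singleton'.mp
    ((h.symm.trans (ht x hxV).1).ge (Ideal.mem_span_singleton_self (X.presheaf.germ V.1 x hxV t)))
  rw [mem_nonZeroDivisors_iff_right]
  intro a ha
  refine (mem_nonZeroDivisors_iff_right.mp (ht x hxV).2) a ?_
  rw [← hr, mul_left_comm, ha, mul_zero]

/-- The base case: at points of depth at most one the hypothesis gives an equation. -/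
theorem exists_sol_of_fromSpecStalk [Flat f] (W : Y.affineOpens) (y : Y) (hy : y ∈ W.1)
    (I₁ : (Spec (Y.presheaf.stalk y)).IdealSheafData) (hI₁ : BlowUp.IsEffCartierIdeal I₁)
    (h : I₁.comap (pullback.snd f (Y.fromSpecStalk y)) = J.comap (pullback.fst f (Y.fromSpecStalk y))) :
    ∃ c : Γ(Y, W.1), Sol f J W.1 y c := by
  let ι := Y.fromSpecStalk y
  obtain ⟨D, hD, d, -, hId⟩ := hI₁ (IsLocalRing.closedPoint (Y.presheaf.stalk y))
  have hDtop : D.1 = ⊤ := (IsLocalRing.closedPoint_mem_iff _).mp hD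
  letI := TopCat.Presheaf.algebra_section_stalk Y.presheaf (⟨y, hy⟩ : W.1)
  haveI := W.2.isLocalization_stalk ⟨y, hy⟩
  let d' : Γ(Spec (Y.presheaf.stalk y), ⊤) := (Spec (Y.presheaf.stalk y)).presheaf.map (eqToHom hDtop.symm).op d
  obtain ⟨⟨c, s⟩, hcs⟩ := IsLocalization.surj (W.2.primeIdealOf ⟨y, hy⟩).asIdeal.primeCompl
    ((Scheme.ΓSpecIso (Y.presheaf.stalk y)).hom d')
  refine ⟨c, fun x hx hxy => ?_⟩
  have hmem : f x ∈ Set.range ι := by
    rw [Scheme.range_fromSpecStalk]; exact hxy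
  obtain ⟨p, hp⟩ := hmem
  obtain ⟨z, hz1, hz2⟩ := Scheme.Pullback.exists_preimage_pullback x p hp.symm
  subst hz1
  have hg2 : pullback.snd f ι z ∈ D.1 := by rw [hDtop]; trivial
  have e1 : gI (I₁.comap (pullback.snd f ι)) z = (gI J (pullback.fst f ι z)).map ((pullback.fst f ι).stalkMap z).hom := by
    rw [h, gI_comap]
  rw [gI_comap, gI_eq I₁ D hg2, hId, Ideal.map_span, Set.image_singleton, Ideal.map_span, Set.image_singleton] at e1
  haveI : Flat ι := Groth.Agent.S1412.flat_fromSpecStalk Y y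
  haveI : Flat (pullback.fst f ι) := MorphismProperty.pullback_fst f ι inferInstance
  rw [← comap_map_stalkMap (f := pullback.fst f ι) z (gI J _),
    ← comap_map_stalkMap (f := pullback.fst f ι) z (Ideal.span _), ← e1, Ideal.map_span, Set.image_singleton]
  congr 1
  have hgc : (pullback.fst f ι).stalkMap z (X.presheaf.germ (f ⁻¹ᵁ W.1) _ hx (f.app W.1 c)) =
      (pullback.snd f ι).stalkMap z ((Spec (Y.presheaf.stalk y)).presheaf.germ (ι ⁻¹ᵁ W.1) _
        (show ι (pullback.snd f ι z) ∈ W.1 by rw [← Scheme.Hom.comp_apply, ← pullback.condition]; exact hx)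
        (ι.app W.1 c)) := by
    erw [Scheme.Hom.germ_stalkMap_apply, Scheme.Hom.germ_stalkMap_apply]
    have key : ∀ (q r : pullback f ι ⟶ Y), q = r → ∀ (h1 : q z ∈ W.1) (h2 : r z ∈ W.1),
        (q.app W.1 ≫ (pullback f ι).presheaf.germ (q ⁻¹ᵁ W.1) z h1) =
          (r.app W.1 ≫ (pullback f ι).presheaf.germ (r ⁻¹ᵁ W.1) z h2) := by
      rintro q r rfl h1 h2; rfl
    exact congrArg (fun φ => φ c) (key _ _ pullback.condition _ _)
  refine Eq.trans ?_ (congrArg (fun r => Ideal.span {r}) hgc).symm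
  have hιc : ι.app W.1 c = (Spec (Y.presheaf.stalk y)).presheaf.map (homOfLE le_top).op
      ((Scheme.ΓSpecIso (Y.presheaf.stalk y)).inv (Y.presheaf.germ W.1 y hy c)) := by
    simp only [ι, Scheme.fromSpecStalk_app hy]
    rfl
  have hc' : Y.presheaf.germ W.1 y hy c =
      algebraMap Γ(Y, W.1) (Y.presheaf.stalk y) s * (Scheme.ΓSpecIso (Y.presheaf.stalk y)).hom d' := by
    rw [mul_comm]; exact hcs.symm
  rw [hιc, hc', map_mul, TopCat.Presheaf.germ_res_apply]
  have hd : (Scheme.ΓSpecIso (Y.presheaf.stalk y)).inv ((Scheme.ΓSpecIso (Y.presheaf.stalk y)).hom d') = d' := by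
    rw [← CommRingCat.comp_apply, Iso.hom_inv_id]; rfl
  rw [hd, map_mul, map_mul]
  have hu : IsUnit ((pullback.snd f ι).stalkMap z ((Spec (Y.presheaf.stalk y)).presheaf.germ ⊤ _ trivial
      ((Scheme.ΓSpecIso (Y.presheaf.stalk y)).inv (algebraMap Γ(Y, W.1) (Y.presheaf.stalk y) s)))) :=
    ((((IsLocalization.map_units (Y.presheaf.stalk y) s)).map (Scheme.ΓSpecIso (Y.presheaf.stalk y)).inv.hom).map
      ((Spec (Y.presheaf.stalk y)).presheaf.germ ⊤ _ trivial).hom).map ((pullback.snd f ι).stalkMap z).hom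
  rw [Ideal.span_singleton_mul_left_unit hu]
  simp only [d', TopCat.Presheaf.germ_res_apply]

/-- Equations exist at every point. -/
theorem exists_sol [IsLocallyNoetherian Y] [Flat f] [Surjective f] (hJ : BlowUp.IsEffCartierIdeal J)
    (h1 : ∀ (W : Y.affineOpens) (y : Y), y ∈ W.1 → LocCoh.depth (Y.presheaf.stalk y) (Y.presheaf.stalk y) ≤ 1 →
      ∃ c : Γ(Y, W.1), Sol f J W.1 y c)
    (W : Y.affineOpens) (y : Y) (hy : y ∈ W.1) : ∃ c : Γ(Y, W.1), Sol f J W.1 y c := by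
  haveI : IsNoetherianRing Γ(Y, W.1) := IsLocallyNoetherian.component_noetherian (X := Y) W
  induction hn : (W.2.primeIdealOf ⟨y, hy⟩).asIdeal.height using WellFoundedLT.induction generalizing y with
  | ind n ih => ?_
  subst hn
  by_cases hd : LocCoh.depth (Y.presheaf.stalk y) (Y.presheaf.stalk y) ≤ 1
  · exact h1 W y hy hd
  let p₀ := (W.2.primeIdealOf ⟨y, hy⟩).asIdeal
  letI := TopCat.Presheaf.algebra_section_stalk Y.presheaf (⟨y, hy⟩ : W.1)
  haveI := W.2.isLocalization_stalk ⟨y, hy⟩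
  obtain ⟨rs, hlen, hrs, hmem⟩ := (Groth.Agent.DepthLib.natCast_le_depth_iff (n := 2)).mp
    (show ((2 : ℕ) : ℕ∞) ≤ LocCoh.depth (Y.presheaf.stalk y) (Y.presheaf.stalk y) from by
      have := Order.add_one_le_of_lt (not_le.mp hd)
      rw [one_add_one_eq_two] at this
      exact_mod_cast this)
  obtain ⟨a₀, b₀, rfl⟩ : ∃ a b, rs = [a, b] := by
    match rs, hlen with
    | [a, b], _ => exact ⟨a, b, rfl⟩
  let σ := IsLocalization.algEquiv p₀.primeCompl (Y.presheaf.stalk y) (Localization.AtPrime p₀)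
  letI : Algebra (Y.presheaf.stalk y) (Localization.AtPrime p₀) := σ.toRingEquiv.toRingHom.toAlgebra
  haveI : Module.Flat (Y.presheaf.stalk y) (Localization.AtPrime p₀) :=
    Module.Flat.of_linearEquiv (LinearEquiv.ofBijective (Algebra.linearMap (Y.presheaf.stalk y)
      (Localization.AtPrime p₀)) σ.bijective).symm
  have hreg : RingTheory.Sequence.IsWeaklyRegular (Localization.AtPrime p₀) [σ a₀, σ b₀] :=
    hrs.of_flat (S := Localization.AtPrime p₀)
  have hmax : ∀ r ∈ IsLocalRing.maximalIdeal (Y.presheaf.stalk y), σ r ∈ IsLocalRing.maximalIdeal _ :=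
    fun r hr => (IsLocalRing.mem_maximalIdeal _).mpr fun hu => hr (by simpa using hu.map σ.symm)
  have ha := hmax a₀ (hmem a₀ (by simp))
  have hb := hmax b₀ (hmem b₀ (by simp))
  -- equations at proper generisations
  have hpun : ∀ p : Ideal Γ(Y, W.1), p.IsPrime → p < p₀ → ∃ c : Γ(Y, W.1), ∀ (x : X) (hx : f x ∈ W.1),
      (W.2.primeIdealOf ⟨f x, hx⟩).asIdeal ≤ p →
        gI J x = Ideal.span {X.presheaf.germ (f ⁻¹ᵁ W.1) x hx (f.app W.1 c)} := by
    intro p hp hlt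
    let q : PrimeSpectrum Γ(Y, W.1) := ⟨p, hp⟩
    have hpW := InvExtend.pt_mem W.2 q
    have hq : (W.2.primeIdealOf ⟨_, hpW⟩).asIdeal = p :=
      congrArg PrimeSpectrum.asIdeal (InvExtend.primeIdealOf_pt W.2 q)
    obtain ⟨c, hc⟩ := ih _ (by
      rw [hq]
      exact Ideal.height_strict_mono_of_isPrime hlt) (InvExtend.pt W.2 q) hpW rfl
    refine ⟨c, fun x hx hle => hc x hx ?_⟩
    rw [InvExtend.specializes_iff W.2 hpW hx, hq]
    exact hle
  choose cp hcp using hpun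
  -- equations at each point over `y`
  have hpt : ∀ (x : X) (hx : f x = y), ∃ c : Γ(Y, W.1),
      gI J x = Ideal.span {X.presheaf.germ (f ⁻¹ᵁ W.1) x (hx ▸ hy : f x ∈ W.1) (f.app W.1 c)} ∧
      algebraMap Γ(Y, W.1) (Localization.AtPrime p₀) c ∈ nonZeroDivisors (Localization.AtPrime p₀) ∧
      ∀ p (hp : p.IsPrime) (hlt : p < p₀), EqAt p c (cp p hp hlt) := by
    intro x hx
    subst hx
    obtain ⟨V, hxV, e, t, ht⟩ := exists_chart (f := f) hJ W.1 hy
    letI := (f.appLE W.1 V.1 e).hom.toAlgebra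
    haveI : Module.Flat Γ(Y, W.1) Γ(X, V.1) :=
      RingHom.flat_algebraMap_iff.mp (HasRingHomProperty.appLE @Flat f ‹_› W V e)
    let 𝔮 := (V.2.primeIdealOf ⟨x, hxV⟩).asIdeal
    have h𝔮 : 𝔮.comap (algebraMap Γ(Y, W.1) Γ(X, V.1)) = p₀ := comap_primeIdealOf e hxV
    have hcpQ : ∀ p (hp : p.IsPrime) (hlt : p < p₀) (Q : Ideal Γ(X, V.1)), Q.IsPrime →
        Q.comap (algebraMap Γ(Y, W.1) Γ(X, V.1)) ≤ p → EqAt Q (algebraMap _ _ (cp p hp hlt)) t := by
      intro p hp hlt Q hQ hle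
      let q : PrimeSpectrum Γ(X, V.1) := ⟨Q, hQ⟩
      have hzV := InvExtend.pt_mem V.2 q
      have hqQ : (V.2.primeIdealOf ⟨_, hzV⟩).asIdeal = Q :=
        congrArg PrimeSpectrum.asIdeal (InvExtend.primeIdealOf_pt V.2 q)
      rw [← hqQ] at hle ⊢
      refine (eqAt_iff_gI e hzV _ (ht _ hzV).1).mpr (hcp p hp hlt _ (e hzV) ?_)
      exact (comap_primeIdealOf e hzV).ge.trans hle
    have htn : algebraMap Γ(X, V.1) (Localization.AtPrime 𝔮) t ∈ nonZeroDivisors _ := by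
      letI := TopCat.Presheaf.algebra_section_stalk X.presheaf (⟨x, hxV⟩ : V.1)
      haveI := V.2.isLocalization_stalk ⟨x, hxV⟩
      let τ := IsLocalization.algEquiv 𝔮.primeCompl (X.presheaf.stalk x) (Localization.AtPrime 𝔮)
      have h0 : algebraMap Γ(X, V.1) (Localization.AtPrime 𝔮) t = τ (X.presheaf.germ V.1 x hxV t) :=
        (τ.commutes t).symm
      rw [h0, mem_nonZeroDivisors_iff_right]
      intro r hr
      refine τ.symm.injective ?_
      rw [map_zero]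
      refine (mem_nonZeroDivisors_iff_right.mp (ht x hxV).2) _ ?_
      have := congrArg τ.symm hr
      rwa [map_mul, AlgEquiv.symm_apply_apply, map_zero] at this
    obtain ⟨c, hc, hcn⟩ := exists_gen_of_punctured p₀ 𝔮 h𝔮 ha hb hreg t htn
      (fun p hp hlt => ⟨cp p hp hlt, hcpQ p hp hlt⟩)
    refine ⟨c, (eqAt_iff_gI e hxV c (ht x hxV).1).mp hc, hcn, fun p hp hlt => ?_⟩
    haveI := hp
    haveI : 𝔮.LiesOver p₀ := ⟨h𝔮.symm⟩
    haveI : Algebra.HasGoingDown Γ(Y, W.1) Γ(X, V.1) := Algebra.HasGoingDown.of_flat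
    obtain ⟨Q, hQle, hQ, hQo⟩ := Ideal.exists_ideal_le_liesOver_of_le 𝔮 (p := p) (q := p₀) hlt.le
    exact EqAt.descend p Q hQo.over.symm ((hc.mono hQle).trans (hcpQ p hp hlt Q hQ hQo.over.symm.le).symm)
  obtain ⟨x₀, hx₀⟩ := f.surjective y
  obtain ⟨c, hc0, hcn, hcp0⟩ := hpt x₀ hx₀
  refine ⟨c, fun x hx hxy => ?_⟩
  rcases ((InvExtend.specializes_iff W.2 hy hx).mp hxy).lt_or_eq with hlt | heq
  · rw [hcp _ inferInstance hlt x hx le_rfl]
    exact (germ_eq_of_eqAt hx (hcp0 _ inferInstance hlt)).symm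
  · have hfx : f x = y := by
      have h2 := congrArg (fun p : PrimeSpectrum Γ(Y, W.1) => W.2.fromSpec p) (PrimeSpectrum.ext heq)
      simpa only [IsAffineOpen.fromSpec_primeIdealOf] using h2
    obtain ⟨c', hc', hcn', hcp'⟩ := hpt x hfx
    rw [hc']
    subst hfx
    exact germ_eq_of_eqAt hx (eqAt_of_punctured p₀ ha hb hreg hcn' hcn fun p hp hlt =>
      (hcp' p hp hlt).trans (hcp0 p hp hlt).symm)

theorem exists_effCartier_comap_eq_of_sol [IsLocallyNoetherian Y] [Flat f] [Surjective f]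
    (hf : QuasiCompact f ∨ IsOpenMap f) (hJ : BlowUp.IsEffCartierIdeal J)
    (h1 : ∀ (W : Y.affineOpens) (y : Y), y ∈ W.1 → LocCoh.depth (Y.presheaf.stalk y) (Y.presheaf.stalk y) ≤ 1 →
      ∃ c : Γ(Y, W.1), Sol f J W.1 y c) :
    ∃ I : Y.IdealSheafData, BlowUp.IsEffCartierIdeal I ∧ I.comap f = J := by
  classical
  let C : ∀ y : Y, Ideal (Y.presheaf.stalk y) := fun y =>
    Ideal.span {Y.presheaf.germ (aff y).1 y (mem_aff y) (exists_sol hJ h1 (aff y) y (mem_aff y)).choose}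
  have hCeq : ∀ (W : Y.affineOpens) (c : Γ(Y, W.1)) (x : X) (hx : f x ∈ W.1),
      gI J x = Ideal.span {X.presheaf.germ (f ⁻¹ᵁ W.1) x hx (f.app W.1 c)} →
        C (f x) = Ideal.span {Y.presheaf.germ W.1 (f x) hx c} ∧
        Y.presheaf.germ W.1 (f x) hx c ∈ nonZeroDivisors _ := by
    intro W c x hx h
    have h2 := (exists_sol hJ h1 (aff (f x)) (f x) (mem_aff (f x))).choose_spec x (mem_aff (f x)) specializes_rfl
    rw [h, ← span_stalkMap_germ, ← span_stalkMap_germ] at h2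
    exact ⟨(comap_map_stalkMap x _).symm.trans ((congrArg (Ideal.comap _) h2.symm).trans (comap_map_stalkMap x _)),
      mem_nzd_of_gI hJ hx h⟩
  have hC : ∀ y : Y, ∃ (D : Y.affineOpens) (c : Γ(Y, D.1)), y ∈ D.1 ∧
      ∀ z (hz : z ∈ D.1), C z = Ideal.span {Y.presheaf.germ D.1 z hz c} ∧
        Y.presheaf.germ D.1 z hz c ∈ nonZeroDivisors (Y.presheaf.stalk z) := by
    intro y
    let W := aff y
    obtain ⟨c, hc⟩ := exists_sol hJ h1 W y (mem_aff y)
    obtain ⟨N, hyN, hNW, hN⟩ : ∃ N : Y.Opens, y ∈ N ∧ N ≤ W.1 ∧ ∀ z ∈ N, ∃ (x : X) (_ : f x = z) (hx : f x ∈ W.1),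
        gI J x = Ideal.span {X.presheaf.germ (f ⁻¹ᵁ W.1) x hx (f.app W.1 c)} := by
      rcases hf with hqc | hopen
      · choose V hxV e t ht using fun x : (f ⁻¹ᵁ W.1 : X.Opens) => exists_chart (f := f) hJ W.1 x.2
        obtain ⟨s, hs⟩ := (QuasiCompact.isCompact_preimage (f := f) _ W.1.2 W.2.isCompact).elim_finite_subcover
          (fun x => ((V x).1 : Set X)) (fun x => (V x).1.2) (fun z hz => Set.mem_iUnion.mpr ⟨⟨z, hz⟩, hxV _⟩)
        have key : ∀ k, ∃ g : Γ(Y, W.1), y ∈ Y.basicOpen g ∧ ∀ z (hz : z ∈ (V k).1), f z ∈ Y.basicOpen g →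
            gI J z = Ideal.span {X.presheaf.germ (f ⁻¹ᵁ W.1) z (e k hz) (f.app W.1 c)} := by
          intro k
          letI := (f.appLE W.1 (V k).1 (e k)).hom.toAlgebra
          obtain ⟨g, hg, hg1, hg2⟩ := exists_nhd_eqAt (W.2.primeIdealOf ⟨y, mem_aff y⟩).asIdeal
            (c := algebraMap Γ(Y, W.1) Γ(X, (V k).1) c) (t := t k) fun Q hQ hle => by
              let q : PrimeSpectrum Γ(X, (V k).1) := ⟨Q, hQ⟩
              have hzV := InvExtend.pt_mem (V k).2 q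
              have hqQ : ((V k).2.primeIdealOf ⟨_, hzV⟩).asIdeal = Q :=
                congrArg PrimeSpectrum.asIdeal (InvExtend.primeIdealOf_pt (V k).2 q)
              rw [← hqQ] at hle ⊢
              refine (eqAt_iff_gI (e k) hzV c (ht k _ hzV).1).mpr (hc _ _ ?_)
              exact (InvExtend.specializes_iff W.2 (mem_aff y) (e k hzV)).mpr
                ((comap_primeIdealOf (e k) hzV).ge.trans hle)
          refine ⟨g, (InvExtend.mem_basicOpen_iff W.2 (mem_aff y) g).mpr hg, fun z hz hzg => ?_⟩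
          refine (eqAt_iff_gI (e k) hz c (ht k z hz).1).mp ⟨algebraMap _ _ g, ?_, hg1, hg2⟩
          show g ∉ ((V k).2.primeIdealOf ⟨z, hz⟩).asIdeal.comap (f.appLE W.1 (V k).1 (e k)).hom
          rw [comap_primeIdealOf (e k) hz]
          exact (InvExtend.mem_basicOpen_iff W.2 (e k hz) g).mp hzg
        choose g hyg hg using key
        refine ⟨Y.basicOpen (∏ k ∈ s, g k), ?_, Y.basicOpen_le _, fun z hz => ?_⟩
        · rw [InvExtend.mem_basicOpen_iff W.2 (mem_aff y), Ideal.IsPrime.prod_mem_iff]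
          rintro ⟨k, -, hk⟩
          exact (InvExtend.mem_basicOpen_iff W.2 (mem_aff y) _).mp (hyg k) hk
        · obtain ⟨x, rfl⟩ := f.surjective z
          have hx : f x ∈ W.1 := Y.basicOpen_le _ hz
          obtain ⟨k, hk, hxk⟩ := Set.mem_iUnion₂.mp (hs (show x ∈ f ⁻¹ᵁ W.1 from hx))
          refine ⟨x, rfl, hx, hg k x hxk ?_⟩
          obtain ⟨r, hr⟩ := Finset.dvd_prod_of_mem g hk
          rw [hr, Scheme.basicOpen_mul] at hz
          exact hz.1
      · obtain ⟨x₀, hx₀⟩ := f.surjective y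
        obtain ⟨V, hxV, e, t, ht⟩ := exists_chart (f := f) hJ W.1 (x := x₀) (hx₀ ▸ mem_aff y)
        obtain ⟨u, hu, hu1, hu2⟩ := (eqAt_iff_gI e hxV c (ht _ hxV).1).mpr
          (hc x₀ _ (specializes_of_eq hx₀))
        refine ⟨⟨f '' (X.basicOpen u : Set X), hopen _ (X.basicOpen u).2⟩,
          ⟨x₀, (InvExtend.mem_basicOpen_iff V.2 hxV u).mpr hu, hx₀⟩, ?_, ?_⟩
        · rintro _ ⟨x, hx, rfl⟩
          exact e (X.basicOpen_le u hx)
        · rintro _ ⟨x, hx, rfl⟩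
          have hxV' : x ∈ V.1 := X.basicOpen_le u hx
          exact ⟨x, rfl, e hxV', (eqAt_iff_gI e hxV' c (ht x hxV').1).mp
            ⟨u, (InvExtend.mem_basicOpen_iff V.2 hxV' u).mp hx, hu1, hu2⟩⟩
    obtain ⟨D, hD, hyD, hDN⟩ := exists_isAffineOpen_mem_and_subset (U := N) (x := y) hyN
    have hDW : D ≤ W.1 := fun z hz => hNW (hDN hz)
    refine ⟨⟨D, hD⟩, Y.presheaf.map (homOfLE hDW).op c, hyD, fun z hz => ?_⟩
    obtain ⟨x, rfl, hx, hxeq⟩ := hN z (hDN hz)
    rw [TopCat.Presheaf.germ_res_apply]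
    exact hCeq W c x hx hxeq
  obtain ⟨I, hI, hIC⟩ := exists_isEffCartier_gI_eq C hC
  have hstalk : ∀ x : X, gI (I.comap f) x = gI J x := by
    intro x
    rw [gI_comap, hIC]
    exact (span_stalkMap_germ _ _).trans
      ((exists_sol hJ h1 (aff (f x)) (f x) (mem_aff (f x))).choose_spec x (mem_aff (f x)) specializes_rfl).symm
  exact ⟨I, hI, le_antisymm (le_of_gI_le _ _ fun x => (hstalk x).le) (le_of_gI_le _ _ fun x => (hstalk x).ge)⟩

/-- Descent from the local hypothesis at points of depth at most one. -/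
theorem exists_effCartier_comap_eq [IsLocallyNoetherian Y] [Flat f] [Surjective f]
    (hf : QuasiCompact f ∨ IsOpenMap f) (hJ : BlowUp.IsEffCartierIdeal J)
    (h1 : ∀ y : Y, LocCoh.depth (Y.presheaf.stalk y) (Y.presheaf.stalk y) ≤ 1 →
      ∃ I₁ : (Spec (Y.presheaf.stalk y)).IdealSheafData, BlowUp.IsEffCartierIdeal I₁ ∧
        I₁.comap (pullback.snd f (Y.fromSpecStalk y)) = J.comap (pullback.fst f (Y.fromSpecStalk y))) :
    ∃ I : Y.IdealSheafData, BlowUp.IsEffCartierIdeal I ∧ I.comap f = J :=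
  exists_effCartier_comap_eq_of_sol hf hJ fun W y hy hd => by
    obtain ⟨I₁, hI₁, he⟩ := h1 y hd
    exact exists_sol_of_fromSpecStalk W y hy I₁ hI₁ he

end Groth.Agent.Div38
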