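import Groth.Agent.Div38.Main
import Groth.Agent.DepthSections.FlatExtend
import Groth.Agent.FlatDescent.CM.Scheme

/-!
# Descent of effective Cartier divisors over a normal base with integral fibres in codimension one
-/

set_option linter.style.haveILetI false
set_option maxHeartbeats 1000000

universe u

open CategoryTheory CategoryTheory.Limits AlgebraicGeometry TopologicalSpace

namespace Groth.Agent.Div38

open DivCodimTwo InvExtend

lemma exists_pow_span_of_dvd {R : Type*} [CommRing R] {π : R} (hπ : π ∈ nonZeroDivisors R)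
    (hp : (Ideal.span {π}).IsPrime) : ∀ (n : ℕ) (t : R), t ∣ π ^ n → ∃ k, Ideal.span {t} = Ideal.span {π ^ k} := by
  intro n
  induction n with
  | zero =>
    intro t ht
    rw [pow_zero] at ht
    exact ⟨0, by rw [pow_zero, Ideal.span_singleton_one, Ideal.span_singleton_eq_top.mpr (isUnit_of_dvd_one ht)]⟩
  | succ n ih =>
    rintro t ⟨s, hs⟩
    have hmem : t * s ∈ Ideal.span {π} := hs ▸ Ideal.mem_span_singleton.mpr (dvd_pow_self π n.succ_ne_zero)
    rcases hp.mem_or_mem hmem with h | h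
    · obtain ⟨t', rfl⟩ := Ideal.mem_span_singleton.mp h
      obtain ⟨k, hk⟩ := ih t' ⟨s, (mul_cancel_left_mem_nonZeroDivisors hπ).mp (by rw [← mul_assoc, ← hs, pow_succ'])⟩
      refine ⟨k + 1, ?_⟩
      rw [pow_succ', ← Ideal.span_singleton_mul_span_singleton, hk, Ideal.span_singleton_mul_span_singleton]
    · obtain ⟨s', rfl⟩ := Ideal.mem_span_singleton.mp h
      exact ih t ⟨s', (mul_cancel_left_mem_nonZeroDivisors hπ).mp (by rw [mul_left_comm, ← hs, pow_succ'])⟩

variable {X Y : Scheme.{u}} {f : X ⟶ Y} {J : X.IdealSheafData}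

lemma gI_eq_top_of_comap_fiberι {η : Y} (h : J.comap (f.fiberι η) = ⊤) {x : X} (hx : f x = η) :
    gI J x = ⊤ := by
  subst hx
  rw [gI_eq_top_iff]
  intro hs
  have h1 : f.asFiber x ∈ (J.comap (f.fiberι (f x))).support := by
    rw [← SetLike.mem_coe, Scheme.IdealSheafData.support_comap]
    show f.fiberι (f x) (f.asFiber x) ∈ J.support
    rw [f.fiberι_asFiber]
    exact hs
  rw [h, Scheme.IdealSheafData.support_top] at h1
  exact h1

lemma isMax_of_height_le_zero [IsLocallyNoetherian Y] (W : Y.affineOpens) {η : Y} (hη : η ∈ W.1)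
    (h : (W.2.primeIdealOf ⟨η, hη⟩).asIdeal.height ≤ 0) : ∀ z : Y, z ⤳ η → z = η := by
  intro z hz
  haveI : IsNoetherianRing Γ(Y, W.1) := IsLocallyNoetherian.component_noetherian (X := Y) W
  have hzW : z ∈ W.1 := hz.mem_open W.1.2 hη
  rcases ((InvExtend.specializes_iff W.2 hη hzW).mp hz).lt_or_eq with hlt | heq
  · have h1 := (Ideal.height_strict_mono_of_isPrime hlt).trans_le h
    simp at h1
  · have h2 := congrArg (fun p : PrimeSpectrum Γ(Y, W.1) => W.2.fromSpec p) (PrimeSpectrum.ext heq)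
    simpa only [IsAffineOpen.fromSpec_primeIdealOf] using h2

lemma isDiscreteValuationRing_of_dim_one (R : Type u) [CommRing R] [IsDomain R] [IsLocalRing R]
    [IsNoetherianRing R] [IsIntegrallyClosed R] (h : ringKrullDim R = 1) : IsDiscreteValuationRing R := by
  haveI : Ring.KrullDimLE 1 R := Ring.krullDimLE_iff.mpr (by rw [h]; rfl)
  haveI : Ring.DimensionLEOne R :=
    ⟨fun hne hp => Ring.krullDimLE_one_iff_of_isPrime_bot.mp inferInstance _ hne hp⟩
  haveI : IsDedekindRing R := (isDedekindRing_iff R (FractionRing R)).mpr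
    ⟨inferInstance, inferInstance, fun hx => (isIntegrallyClosed_iff (FractionRing R)).mp inferInstance hx⟩
  haveI : IsDedekindDomain R := inferInstance
  refine ((IsDiscreteValuationRing.TFAE R ?_).out 2 0).mp (show IsDedekindDomain R from inferInstance)
  intro hf
  have := ringKrullDim_eq_zero_of_isField hf
  rw [h] at this
  exact one_ne_zero this

/-- The equation at a point of codimension at most one of a normal base. -/
theorem exists_sol_of_normal [IsLocallyNoetherian X] [IsLocallyNoetherian Y] [Flat f] [Surjective f]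
    (hY : Pi1.IsNormalScheme Y)
    (hfib : ∀ y : Y, ringKrullDim (Y.presheaf.stalk y) = 1 → IsIntegral (f.fiber y))
    (hJ : BlowUp.IsEffCartierIdeal J)
    (htriv : ∀ η : Y, (∀ z : Y, z ⤳ η → z = η) → J.comap (f.fiberι η) = ⊤)
    (W : Y.affineOpens) (y : Y) (hy : y ∈ W.1)
    (hd : LocCoh.depth (Y.presheaf.stalk y) (Y.presheaf.stalk y) ≤ 1) :
    ∃ c : Γ(Y, W.1), Sol f J W.1 y c := by
  haveI : IsNoetherianRing Γ(Y, W.1) := IsLocallyNoetherian.component_noetherian (X := Y) W
  letI := TopCat.Presheaf.algebra_section_stalk Y.presheaf (⟨y, hy⟩ : W.1)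
  haveI := W.2.isLocalization_stalk ⟨y, hy⟩
  haveI : IsNoetherianRing (Y.presheaf.stalk y) :=
    IsLocalization.isNoetherianRing (W.2.primeIdealOf ⟨y, hy⟩).asIdeal.primeCompl _ inferInstance
  haveI := (hY y).1
  haveI := (hY y).2
  have hdim : ringKrullDim (Y.presheaf.stalk y) ≤ 1 := by
    by_contra hlt
    have h2 := Groth.Agent.DepthSections.two_le_depth_of_normal hY y (not_le.mp hlt)
    exact absurd (h2.trans hd) (by decide)
  have hht : (W.2.primeIdealOf ⟨y, hy⟩).asIdeal.height ≤ 1 := by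
    rw [IsLocalization.AtPrime.ringKrullDim_eq_height (W.2.primeIdealOf ⟨y, hy⟩).asIdeal] at hdim
    exact_mod_cast hdim
  have hgen : ∀ z, z ⤳ y → z ≠ y → ∀ w, w ⤳ z → w = z := by
    intro z hz hne
    have hzW : z ∈ W.1 := hz.mem_open W.1.2 hy
    refine isMax_of_height_le_zero W hzW ?_
    rcases ((InvExtend.specializes_iff W.2 hy hzW).mp hz).lt_or_eq with hlt | heq
    · have h1 := (Ideal.height_strict_mono_of_isPrime hlt).trans_le hht
      exact (ENat.lt_one_iff_eq_zero.mp h1).le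
    · exfalso
      have h2 := congrArg (fun p : PrimeSpectrum Γ(Y, W.1) => W.2.fromSpec p) (PrimeSpectrum.ext heq)
      exact hne (by simpa only [IsAffineOpen.fromSpec_primeIdealOf] using h2)
  by_cases hmax : ∀ z, z ⤳ y → z = y
  · refine ⟨1, fun x hx hxy => ?_⟩
    rw [gI_eq_top_of_comap_fiberι (htriv y hmax) (hmax _ hxy), map_one, map_one, Ideal.span_singleton_one]
  push Not at hmax
  obtain ⟨z₀, hz₀, hz₀y⟩ := hmax
  have hdim1 : ringKrullDim (Y.presheaf.stalk y) = 1 := by
    rw [IsLocalization.AtPrime.ringKrullDim_eq_height (W.2.primeIdealOf ⟨y, hy⟩).asIdeal]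
    have hzW : z₀ ∈ W.1 := hz₀.mem_open W.1.2 hy
    have hlt : (W.2.primeIdealOf ⟨z₀, hzW⟩).asIdeal < (W.2.primeIdealOf ⟨y, hy⟩).asIdeal := by
      refine ((InvExtend.specializes_iff W.2 hy hzW).mp hz₀).lt_of_ne fun heq => hz₀y ?_
      have h2 := congrArg (fun p : PrimeSpectrum Γ(Y, W.1) => W.2.fromSpec p) (PrimeSpectrum.ext heq)
      simpa only [IsAffineOpen.fromSpec_primeIdealOf] using h2
    have h1 := Ideal.height_strict_mono_of_isPrime hlt
    have : (W.2.primeIdealOf ⟨y, hy⟩).asIdeal.height = 1 :=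
      le_antisymm hht (Order.one_le_iff_pos.mpr ((zero_le).trans_lt h1))
    rw [this]; rfl
  haveI := isDiscreteValuationRing_of_dim_one (Y.presheaf.stalk y) hdim1
  obtain ⟨ϖ, hϖ⟩ := IsDiscreteValuationRing.exists_irreducible (Y.presheaf.stalk y)
  obtain ⟨⟨c₀, s⟩, hcs⟩ := IsLocalization.surj (W.2.primeIdealOf ⟨y, hy⟩).asIdeal.primeCompl ϖ
  have hgermc : IsLocalRing.maximalIdeal (Y.presheaf.stalk y) = Ideal.span {Y.presheaf.germ W.1 y hy c₀} := by
    rw [hϖ.maximalIdeal_eq]
    exact (Ideal.span_singleton_mul_right_unit (IsLocalization.map_units _ s) ϖ).symm.trans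
      (congrArg (fun r => Ideal.span {r}) hcs)
  have hcne : Y.presheaf.germ W.1 y hy c₀ ≠ 0 := fun h0 => by
    rw [h0, Ideal.span_singleton_zero] at hgermc
    exact IsDiscreteValuationRing.not_a_field _ hgermc
  haveI : IsIntegral (f.fiber y) := hfib y hdim1
  -- the image of the uniformiser
  have hπ : ∀ (x : X) (hx : f x = y),
      X.presheaf.germ (f ⁻¹ᵁ W.1) x (hx ▸ hy : f x ∈ W.1) (f.app W.1 c₀) ∈ nonZeroDivisors _ ∧
      (Ideal.span {X.presheaf.germ (f ⁻¹ᵁ W.1) x (hx ▸ hy : f x ∈ W.1) (f.app W.1 c₀)}).IsPrime := by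
    intro x hx
    subst hx
    constructor
    · letI := (f.stalkMap x).hom.toAlgebra
      haveI : Module.Flat (Y.presheaf.stalk (f x)) (X.presheaf.stalk x) := Flat.stalkMap f x
      have hreg : IsSMulRegular (Y.presheaf.stalk (f x)) (Y.presheaf.germ W.1 (f x) hy c₀) :=
        fun a b h => mul_left_cancel₀ hcne h
      have := IsSMulRegular.of_flat (S := X.presheaf.stalk x) hreg
      rw [← Scheme.Hom.germ_stalkMap_apply, mem_nonZeroDivisors_iff_right]
      intro a ha
      refine this ?_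
      show f.stalkMap x (Y.presheaf.germ W.1 (f x) hy c₀) * a = f.stalkMap x (Y.presheaf.germ W.1 (f x) hy c₀) * 0
      rw [mul_zero, mul_comm]
      exact ha
    · rw [← span_stalkMap_germ hy c₀, ← hgermc]
      obtain ⟨e⟩ := Groth.FlatDescent.CM.exists_fibreStalkEquiv f x
      haveI : IsDomain ((f.fiber (f x)).presheaf.stalk (f.asFiber x)) := inferInstance
      haveI := e.toMulEquiv.isDomain
      exact Ideal.Quotient.isDomain_iff_prime _ |>.mp ‹_›
  have hord : ∀ (x : X) (hx : f x = y), ∃ k : ℕ,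
      gI J x = Ideal.span {X.presheaf.germ (f ⁻¹ᵁ W.1) x (hx ▸ hy : f x ∈ W.1) (f.app W.1 (c₀ ^ k))} := by
    intro x hx
    obtain ⟨hnzd, hprime⟩ := hπ x hx
    subst hx
    obtain ⟨V, hxV, e, t, ht⟩ := exists_chart (f := f) hJ W.1 hy
    letI := TopCat.Presheaf.algebra_section_stalk X.presheaf (⟨x, hxV⟩ : V.1)
    haveI := V.2.isLocalization_stalk ⟨x, hxV⟩
    have hrad : X.presheaf.germ (f ⁻¹ᵁ W.1) x hy (f.app W.1 c₀) ∈ (gI J x).radical := by
      rw [Ideal.radical_eq_sInf, Submodule.mem_sInf]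
      rintro Q ⟨hQJ, hQ⟩
      by_contra hπQ
      let P := Ideal.comap (algebraMap Γ(X, V.1) (X.presheaf.stalk x)) Q
      let q : PrimeSpectrum Γ(X, V.1) := ⟨P, inferInstance⟩
      have hwV := InvExtend.pt_mem V.2 q
      have hqP : (V.2.primeIdealOf ⟨_, hwV⟩).asIdeal = P :=
        congrArg PrimeSpectrum.asIdeal (InvExtend.primeIdealOf_pt V.2 q)
      have htP : t ∈ P := Ideal.mem_comap.mpr (hQJ ((ht x hxV).1.ge (Ideal.mem_span_singleton_self _)))
      have hcP : f.appLE W.1 V.1 e c₀ ∉ P := fun hc => hπQ (by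
        rw [← Scheme.Hom.germ_stalkMap_apply, ← germ_appLE e hxV]
        exact hc)
      have hPx : InvExtend.pt V.2 q ⤳ x := (InvExtend.specializes_iff V.2 hxV hwV).mpr (by
        rw [hqP]
        intro g hg
        have := IsLocalRing.le_maximalIdeal hQ.ne_top hg
        rwa [IsLocalization.AtPrime.to_map_mem_maximal_iff (X.presheaf.stalk x)
          (V.2.primeIdealOf ⟨x, hxV⟩).asIdeal] at this)
      have hne : f (InvExtend.pt V.2 q) ≠ f x := fun hfw => by
        apply hcP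
        rw [← hqP, ← Ideal.mem_comap, comap_primeIdealOf e hwV]
        have : (⟨f (InvExtend.pt V.2 q), e hwV⟩ : W.1) = ⟨f x, hy⟩ := Subtype.ext hfw
        rw [this]
        by_contra hc
        have := (InvExtend.mem_basicOpen_iff W.2 hy c₀).mpr hc
        rw [Scheme.mem_basicOpen _ _ _ hy, ← Ideal.span_singleton_eq_top, ← hgermc] at this
        exact (IsLocalRing.maximalIdeal.isMaximal _).ne_top this
      have hfw : f (InvExtend.pt V.2 q) ⤳ f x := hPx.map f.continuous
      have htop := gI_eq_top_of_comap_fiberι (htriv _ (hgen _ hfw hne)) rfl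
      rw [(ht _ hwV).1, Ideal.span_singleton_eq_top] at htop
      exact ((InvExtend.mem_basicOpen_iff V.2 hwV t).mp ((Scheme.mem_basicOpen _ _ _ hwV).mpr htop)) (hqP ▸ htP)
    obtain ⟨n, hn⟩ := hrad
    rw [(ht x hxV).1, Ideal.mem_span_singleton] at hn
    obtain ⟨k, hk⟩ := exists_pow_span_of_dvd hnzd hprime n _ hn
    exact ⟨k, by rw [(ht x hxV).1, hk, map_pow, map_pow]⟩
  let ξ : X := f.fiberι y (genericPoint (f.fiber y))
  have hξ : f ξ = y := (f.range_fiberι y).le ⟨_, rfl⟩
  obtain ⟨m, hm⟩ := hord ξ hξ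
  refine ⟨c₀ ^ m, fun x hx hxy => ?_⟩
  by_cases hfx : f x = y
  · obtain ⟨k, hk⟩ := hord x hfx
    have hξx : ξ ⤳ x := by
      subst hfx
      rw [← f.fiberι_asFiber x]
      exact (genericPoint_specializes (f.asFiber x)).map (f.fiberι (f x)).continuous
    obtain ⟨V, hxV, e, t, ht⟩ := exists_chart (f := f) hJ W.1 hx
    have hξV : ξ ∈ V.1 := hξx.mem_open V.1.2 hxV
    have h1 := ((eqAt_iff_gI e hxV _ (ht x hxV).1).mpr hk).mono ((InvExtend.specializes_iff V.2 hxV hξV).mp hξx)
    have h2 := (eqAt_iff_gI e hξV _ (ht ξ hξV).1).mp h1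
    rw [hm] at h2
    obtain ⟨hnzd, hprime⟩ := hπ ξ hξ
    rw [map_pow, map_pow, map_pow, map_pow] at h2
    have hmk : m = k := by
      have hnu : ¬ IsUnit (X.presheaf.germ (f ⁻¹ᵁ W.1) ξ (e hξV) (f.app W.1 c₀)) := fun hu =>
        hprime.ne_top (Ideal.span_singleton_eq_top.mpr hu)
      by_contra hne
      rcases Nat.lt_or_ge m k with hlt | hge
      · obtain ⟨r, hr⟩ := Ideal.mem_span_singleton'.mp (h2.le (Ideal.mem_span_singleton_self _))
        obtain ⟨d, rfl⟩ := Nat.exists_eq_add_of_lt hlt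
        refine hnu (isUnit_of_dvd_one ⟨r * X.presheaf.germ (f ⁻¹ᵁ W.1) ξ (e hξV) (f.app W.1 c₀) ^ d, ?_⟩)
        refine (mul_cancel_left_mem_nonZeroDivisors (pow_mem hnzd m)).mp ?_
        rw [mul_one]
        refine hr.symm.trans ?_
        ring
      · obtain ⟨r, hr⟩ := Ideal.mem_span_singleton'.mp (h2.ge (Ideal.mem_span_singleton_self _))
        obtain ⟨d, rfl⟩ := Nat.exists_eq_add_of_lt (lt_of_le_of_ne hge (Ne.symm hne))
        refine hnu (isUnit_of_dvd_one ⟨r * X.presheaf.germ (f ⁻¹ᵁ W.1) ξ (e hξV) (f.app W.1 c₀) ^ d, ?_⟩)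
        refine (mul_cancel_left_mem_nonZeroDivisors (pow_mem hnzd k)).mp ?_
        rw [mul_one]
        refine hr.symm.trans ?_
        ring
    rw [hk, hmk]
  · rw [gI_eq_top_of_comap_fiberι (htriv _ (hgen _ hxy hfx)) rfl, eq_comm, Ideal.span_singleton_eq_top,
      map_pow, map_pow]
    refine IsUnit.pow m ?_
    rw [← Scheme.Hom.germ_stalkMap_apply]
    refine IsUnit.map (f.stalkMap x).hom ?_
    refine (Scheme.mem_basicOpen _ _ _ hx).mp ((InvExtend.mem_basicOpen_iff W.2 hx c₀).mpr fun hc => ?_)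
    haveI := W.2.isLocalization_stalk ⟨y, hy⟩
    have hlt : (W.2.primeIdealOf ⟨f x, hx⟩).asIdeal < (W.2.primeIdealOf ⟨y, hy⟩).asIdeal := by
      refine ((InvExtend.specializes_iff W.2 hy hx).mp hxy).lt_of_ne fun heq => hfx ?_
      have h2 := congrArg (fun p : PrimeSpectrum Γ(Y, W.1) => W.2.fromSpec p) (PrimeSpectrum.ext heq)
      simpa only [IsAffineOpen.fromSpec_primeIdealOf] using h2
    refine absurd ?_ hlt.not_ge
    intro g hg
    have h3 : algebraMap Γ(Y, W.1) (Y.presheaf.stalk y) g ∈ IsLocalRing.maximalIdeal _ :=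
      (IsLocalization.AtPrime.to_map_mem_maximal_iff _ (W.2.primeIdealOf ⟨y, hy⟩).asIdeal g).mpr hg
    rw [hgermc] at h3
    obtain ⟨u, hu, hug⟩ := (mem_span_img_iff (W.2.primeIdealOf ⟨y, hy⟩).asIdeal
      (L := Y.presheaf.stalk y)).mp h3
    have h4 : u * g ∈ (W.2.primeIdealOf ⟨f x, hx⟩).asIdeal :=
      (Ideal.span_singleton_le_iff_mem _).mpr hc hug
    exact ((Ideal.IsPrime.mem_or_mem inferInstance h4).resolve_left fun h => hu (hlt.le h))

/-- Effective Cartier ideals are trivial at maximal points of a normal scheme. -/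
lemma gI_eq_top_of_isMax [IsLocallyNoetherian Y] {I : Y.IdealSheafData} (hI : BlowUp.IsEffCartierIdeal I)
    (η : Y) (hη : ∀ z : Y, z ⤳ η → z = η) : η ∉ I.support := by
  obtain ⟨V, hηV, t, ht, hIV⟩ := hI η
  rw [mem_support_iff_le I V hηV]
  intro hle
  rw [hIV, Ideal.span_singleton_le_iff_mem] at hle
  have hmin : (V.2.primeIdealOf ⟨η, hηV⟩).asIdeal ∈ minimalPrimes Γ(Y, V.1) := by
    refine ⟨⟨inferInstance, bot_le⟩, fun p hp hple => ?_⟩
    have h1 := hp.1
    let q : PrimeSpectrum Γ(Y, V.1) := ⟨p, hp.1⟩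
    have hzV := InvExtend.pt_mem V.2 q
    have hqp : (V.2.primeIdealOf ⟨_, hzV⟩).asIdeal = p :=
      congrArg PrimeSpectrum.asIdeal (InvExtend.primeIdealOf_pt V.2 q)
    have hz := hη _ ((InvExtend.specializes_iff V.2 hηV hzV).mpr (hqp ▸ hple))
    have : (⟨InvExtend.pt V.2 q, hzV⟩ : V.1) = ⟨η, hηV⟩ := Subtype.ext hz
    rw [← hqp, this]
  exact Set.disjoint_left.mp (Ideal.disjoint_nonZeroDivisors_of_mem_minimalPrimes hmin) hle ht

theorem effCartier_descends_iff_trivial [IsLocallyNoetherian X] [IsLocallyNoetherian Y] [Flat f] [Surjective f]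
    (hf : QuasiCompact f ∨ IsOpenMap f) (hY : Pi1.IsNormalScheme Y)
    (hfib : ∀ y : Y, ringKrullDim (Y.presheaf.stalk y) = 1 → IsIntegral (f.fiber y))
    (hJ : BlowUp.IsEffCartierIdeal J) :
    (∃ I : Y.IdealSheafData, BlowUp.IsEffCartierIdeal I ∧ I.comap f = J) ↔
      ∀ η : Y, (∀ z : Y, z ⤳ η → z = η) → J.comap (f.fiberι η) = ⊤ := by
  constructor
  · rintro ⟨I, hI, rfl⟩ η hη
    rw [← Scheme.IdealSheafData.support_eq_bot_iff]
    refine SetLike.coe_injective (Set.eq_empty_iff_forall_notMem.mpr fun p hp => ?_)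
    rw [Scheme.IdealSheafData.support_comap, Scheme.IdealSheafData.support_comap] at hp
    have hp' : f (f.fiberι η p) ∈ I.support := hp
    have hfp : f (f.fiberι η p) = η := (f.range_fiberι η).le ⟨p, rfl⟩
    exact gI_eq_top_of_isMax hI η hη (hfp ▸ hp')
  · exact fun h => exists_effCartier_comap_eq_of_sol hf hJ (exists_sol_of_normal hY hfib hJ h)

end Groth.Agent.Div38
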